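import Groth.Agent.Lib.RootD.Weyl

/-!
A criterion for simple systems, the simple system of the dual pairing, automorphisms fixing all roots.
-/

namespace Groth.Agent.RootDLib

open RootPairing Set Function

variable {ι M N : Type*} [AddCommGroup M] [AddCommGroup N] {P : RootPairing ι ℤ M N} [Finite ι]

omit [Finite ι] in
lemma supp_subset_of_natSpan {Δ : Set ι} {k : ι} (hk : k ∈ Δ) {c : ℤ} :
    ↑(Finsupp.single k c).support ⊆ Δ :=
  (Finset.coe_subset.2 Finsupp.support_single_subset).trans (by simpa using hk)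

/-- Indivisible linearly independent roots spanning the roots up to positive rational multiples
form a simple system. -/
lemma isSimpleSys_of_cone (Δ : Set ι) (hind : ∀ i ∈ Δ, RootD.IsIndiv P i)
    (hli : LinearIndepOn ℤ P.root Δ)
    (hcone : ∀ k : ι, ∃ n : ℕ, 0 < n ∧
      (n • P.root k ∈ RootD.natSpan P Δ ∨ n • (-P.root k) ∈ RootD.natSpan P Δ)) :
    RootD.IsSimpleSys P Δ := by
  classical
  have := torsionFree P
  set S : Set ι := {k | ∃ n : ℕ, 0 < n ∧ n • P.root k ∈ RootD.natSpan P Δ} with hSdef
  have huniq : ∀ {c : ι →₀ ℤ}, ↑c.support ⊆ Δ →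
      Finsupp.linearCombination ℤ P.root c = 0 → c = 0 := fun {c} hc he =>
    linearIndepOn_iff.1 hli c ((Finsupp.mem_supported ℤ c).2 hc) he
  have hS : RootD.IsPosSys P S := by
    refine isPosSys_of_closed (fun i hi hn => ?_) (fun i => ?_) (fun i j k hi hj hk => ?_)
    · obtain ⟨n, hn0, hn1⟩ := hi
      obtain ⟨m, hm0, hm1⟩ := hn
      rw [root_ng] at hm1
      obtain ⟨c, hc, hc0, hce⟩ := mem_natSpan_iff_finsupp.1 (nsmul_mem hn1 m)
      obtain ⟨d, hd, hd0, hde⟩ := mem_natSpan_iff_finsupp.1 (nsmul_mem hm1 n)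
      have h0 := huniq (c := c + d) ((Finset.coe_subset.2 Finsupp.support_add).trans
        (by simpa using ⟨hc, hd⟩)) (by
          rw [map_add, hce, hde, smul_neg, smul_neg, smul_comm m n, add_neg_cancel])
      have hc00 : c = 0 := Finsupp.ext fun a => by
        have h1 := DFunLike.congr_fun h0 a
        have h2 := hc0 a
        have h3 := hd0 a
        simp at h1 h2 h3 ⊢
        omega
      rw [hc00, map_zero, eq_comm, nsmul_eq_zero_iff, nsmul_eq_zero_iff] at hce
      rcases hce with (h | h) | h
      · exact root_ne_zero P i h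
      · omega
      · omega
    · obtain ⟨n, hn, h | h⟩ := hcone i
      · exact Or.inl ⟨n, hn, h⟩
      · exact Or.inr ⟨n, hn, by rwa [root_ng]⟩
    · obtain ⟨n, hn, hi⟩ := hi
      obtain ⟨m, hm, hj⟩ := hj
      refine ⟨n * m, Nat.mul_pos hn hm, ?_⟩
      rw [hk, smul_add]
      refine add_mem ?_ ?_
      · rw [mul_comm, mul_smul]; exact nsmul_mem hi m
      · rw [mul_smul]; exact nsmul_mem hj n
  have hΔ0 := isSimpleSys_indec hS
  have hb : ∀ b ∈ indec P S, ∃ n : ℕ, 0 < n ∧ ∃ c : ι →₀ ℤ, ↑c.support ⊆ Δ ∧ 0 ≤ c ∧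
      Finsupp.linearCombination ℤ P.root c = n • P.root b := fun b hb => by
    obtain ⟨n, hn, h⟩ := hb.1
    exact ⟨n, hn, mem_natSpan_iff_finsupp.1 h⟩
  have hsub : Δ ⊆ indec P S := by
    intro a ha
    by_contra hna
    obtain ⟨i, hi, -, b, hb', he⟩ := exists_sub_simple hΔ0
      (show a ∈ RootD.posOf P (indec P S) from (posOf_indec hS).symm ▸
        ⟨1, one_pos, by rw [one_smul]; exact root_mem_natSpan P ha⟩) hna
    rw [posOf_indec hS] at hb'
    obtain ⟨n, hn, hn1⟩ := hi.1
    obtain ⟨m, hm, hm1⟩ := hb'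
    obtain ⟨c, hc, hc0, hce⟩ := mem_natSpan_iff_finsupp.1 (nsmul_mem hn1 m)
    obtain ⟨d, hd, hd0, hde⟩ := mem_natSpan_iff_finsupp.1 (nsmul_mem hm1 n)
    have h0 := huniq (c := c + d - Finsupp.single a ((m * n : ℕ) : ℤ)) (by
        refine (Finset.coe_subset.2 (Finsupp.support_sub.trans
          (Finset.union_subset_union_left Finsupp.support_add))).trans ?_
        simp only [Finset.coe_union, union_subset_iff]
        exact ⟨⟨hc, hd⟩, supp_subset_of_natSpan ha⟩) (by
      rw [map_sub, map_add, hce, hde, Finsupp.linearCombination_single, natCast_zsmul, he,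
        smul_add, mul_smul, mul_smul, smul_comm n m (P.root b)]
      abel)
    have hci : ∀ x, x ≠ a → c x = 0 := fun x hx => by
      have h1 := DFunLike.congr_fun h0 x
      have h2 := hc0 x
      have h3 := hd0 x
      simp [Finsupp.single_eq_of_ne hx] at h1 h2 h3
      omega
    have hc' : c = Finsupp.single a (c a) := Finsupp.ext fun x => by
      rcases eq_or_ne x a with rfl | hx
      · simp
      · rw [hci x hx, Finsupp.single_eq_of_ne hx]
    rw [hc', Finsupp.linearCombination_single, smul_smul, ← natCast_zsmul] at hce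
    have hdvd := dvd_of_smul_eq_smul P (hind a ha)
      (b := ((m * n : ℕ) : ℤ)) (by positivity) hce.symm
    have hca : c a ≠ 0 := fun h => by
      rw [h, zero_smul, eq_comm, smul_eq_zero] at hce
      rcases hce with h' | h'
      · exact absurd h' (by positivity)
      · exact root_ne_zero P i h'
    have h1 := DFunLike.congr_fun h0 a
    have h2 := hc0 a
    have h3 := hd0 a
    simp at h1 h2 h3
    have hle : ((m * n : ℕ) : ℤ) ≤ c a := Int.le_of_dvd (by omega) hdvd
    have hd0' : d = 0 := Finsupp.ext fun x => by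
      rcases eq_or_ne x a with rfl | hx
      · push_cast at hle; simp; omega
      · have h1 := DFunLike.congr_fun h0 x
        simp [Finsupp.single_eq_of_ne hx, hci x hx] at h1 ⊢
        omega
    rw [hd0', map_zero, eq_comm, nsmul_eq_zero_iff, nsmul_eq_zero_iff] at hde
    rcases hde with (h' | h') | h'
    · exact root_ne_zero P b h'
    · omega
    · omega
  have heq : indec P S ⊆ Δ := by
    intro b hb'
    by_contra hbΔ
    obtain ⟨n, hn, c, hc, hc0, he⟩ := hb b hb'
    have h := coeff_unique hΔ0 (c := c) (d := Finsupp.single b (n : ℤ)) (hc.trans hsub)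
      (supp_subset_of_natSpan hb') (by rw [he, Finsupp.linearCombination_single, natCast_zsmul])
    have h2 : c b = 0 := Finsupp.notMem_support_iff.1 fun h' => hbΔ (hc h')
    rw [h, Finsupp.single_eq_same] at h2
    omega
  exact (heq.antisymm hsub) ▸ hΔ0

/-- `form P (root i) (root i) • coroot i` is additive in `root i`. -/
lemma form_smul_coroot_eq (x : M) (i : ι) :
    P.toLinearMap x (form P (P.root i) (P.root i) • P.coroot i) = 2 * form P x (P.root i) := by
  rw [map_smul, smul_eq_mul, two_form_root, mul_comm]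
  rfl

variable {Δ : Set ι} (hΔ : RootD.IsSimpleSys P Δ)
include hΔ

lemma form_smul_coroot_sum {k : ι} {c : ι →₀ ℤ}
    (hck : Finsupp.linearCombination ℤ P.root c = P.root k) :
    form P (P.root k) (P.root k) • P.coroot k =
      c.sum fun a z => (z * form P (P.root a) (P.root a)) • P.coroot a := by
  apply P.flip.toPerfPair.injective
  refine LinearMap.ext fun x => ?_
  change P.toLinearMap x _ = P.toLinearMap x _
  rw [form_smul_coroot_eq, map_finsuppSum, ← hck, Finsupp.linearCombination_apply, map_finsuppSum,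
    Finsupp.mul_sum]
  refine Finsupp.sum_congr fun a _ => ?_
  rw [map_smul, mul_smul, map_smul, smul_eq_mul, smul_eq_mul, form_smul_coroot_eq]
  ring

/-- The simple system of the dual pairing attached to a simple system. -/
lemma isSimpleSys_flip : RootD.IsSimpleSys P.flip
    {j : ι | ∃ i ∈ Δ, (j = i ∧ RootD.IsIndiv P.flip i) ∨ (2 : ℤ) • P.coroot j = P.coroot i} := by
  classical
  have tfM := torsionFree P
  have tfN := torsionFree' P
  set D := {j : ι | ∃ i ∈ Δ, (j = i ∧ RootD.IsIndiv P.flip i) ∨ (2 : ℤ) • P.coroot j = P.coroot i}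
  have hD : ∀ j ∈ D, ∃ i ∈ Δ, ∃ t : ℤ, 0 < t ∧ P.root j = t • P.root i ∧
      t • P.coroot j = P.coroot i := by
    rintro j ⟨i, hi, ⟨rfl, -⟩ | h⟩
    · exact ⟨j, hi, 1, one_pos, by simp, by simp⟩
    · refine ⟨i, hi, 2, two_pos, ?_, h⟩
      exact (P.flip.smul_coroot_eq_of_root_eq_smul j i 2 h.symm).symm
  have hDinj : ∀ j ∈ D, ∀ j' ∈ D, ∀ i ∈ Δ, ∀ t t' : ℤ, 0 < t → 0 < t' →
      P.root j = t • P.root i → P.root j' = t' • P.root i → j = j' := by
    intro j hj j' hj' i hi t t' ht ht' e e'
    have hind : ∀ j ∈ D, RootD.IsIndiv P.flip j := by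
      rintro j ⟨i, -, ⟨rfl, h⟩ | h⟩
      · exact h
      · intro l hl
        have h4 : P.flip.root i = (4 : ℤ) • P.flip.root l := by
          change P.coroot i = (4 : ℤ) • P.coroot l
          rw [← h, ← (show (2 : ℤ) • P.coroot l = P.coroot j from hl), smul_smul]; norm_num
        have := mul_pairing_of_smul P.flip h4
        omega
    rcases smul_eq_root_of_mem_one_two P ht e with rfl | rfl <;>
      rcases smul_eq_root_of_mem_one_two P ht' e' with h | h
    · exact h.symm
    · subst h
      exact absurd (show (2 : ℤ) • P.flip.root j' = P.flip.root j from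
        P.smul_coroot_eq_of_root_eq_smul j j' 2 e') (fun h => hind j hj j' h)
    · subst h
      exact absurd (show (2 : ℤ) • P.flip.root j = P.flip.root j' from
        P.smul_coroot_eq_of_root_eq_smul j' j 2 e) (fun h => hind j' hj' j h)
    · subst h; exact P.root.injective (e.trans e'.symm)
  have hindD : ∀ j ∈ D, RootD.IsIndiv P.flip j := by
    rintro j ⟨i, -, ⟨rfl, h⟩ | h⟩
    · exact h
    · intro l hl
      have h4 : P.flip.root i = (4 : ℤ) • P.flip.root l := by
        change P.coroot i = (4 : ℤ) • P.coroot l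
        rw [← h, ← (show (2 : ℤ) • P.coroot l = P.coroot j from hl), smul_smul]; norm_num
      have := mul_pairing_of_smul P.flip h4
      omega
  refine isSimpleSys_of_cone D hindD ?_ fun k => ?_
  · rw [linearIndepOn_iff']
    intro s g hs hg
    choose! σ hσ t ht hσr hσc using hD
    set F : ι → ℤ := fun j => form P (P.root j) (P.root j) with hF
    set Q : ι → ℤ := fun j => ∏ l ∈ s.erase j, F l with hQ
    have hQF : ∀ j ∈ s, Q j * F j = ∏ l ∈ s, F l := fun j hj => Finset.prod_erase_mul _ _ hj
    set x := ∑ j ∈ s, (g j * Q j) • P.root j with hx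
    clear_value x
    have hx0 : x = 0 := by
      refine eq_zero_of_form P (hx ▸ sum_mem fun j _ => Submodule.smul_mem _ _ (root_mem P j)) ?_
      have h1 : 2 * form P x x = (∏ l ∈ s, F l) * P.toLinearMap x (∑ j ∈ s, g j • P.coroot j) := by
        rw [show form P x x = form P x (∑ j ∈ s, (g j * Q j) • P.root j) by rw [← hx]]
        rw [map_sum, map_sum, Finset.mul_sum, Finset.mul_sum]
        refine Finset.sum_congr rfl fun j hj => ?_
        rw [map_smul, map_smul, smul_eq_mul, smul_eq_mul, ← hQF j hj]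
        have := two_form_root P x j
        change 2 * form P x (P.root j) = P.toLinearMap x (P.coroot j) * F j at this
        linear_combination (g j * Q j) * this
      have hg' : ∑ j ∈ s, g j • P.coroot j = 0 := hg
      rw [hg', map_zero, mul_zero] at h1
      omega
    intro j hj
    have h2 : ∑ l ∈ s, Finsupp.single (σ l) (g l * Q l * t l) = 0 := by
      refine linearIndepOn_iff.1 hΔ.linInd _ (sum_mem fun l hl => ?_) ?_
      · exact Finsupp.single_mem_supported ℤ _ (hσ l (hs hl))
      · rw [map_sum, ← hx0, hx]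
        refine Finset.sum_congr rfl fun l hl => ?_
        rw [Finsupp.linearCombination_single, mul_smul, ← hσr l (hs hl)]
    have h3 := DFunLike.congr_fun h2 (σ j)
    rw [Finsupp.finsetSum_apply, Finsupp.zero_apply, Finset.sum_eq_single_of_mem j hj
      (fun l hl hne => ?_), Finsupp.single_eq_same] at h3
    · have hQpos : 0 < Q j := Finset.prod_pos fun l _ => form_root_pos P l
      have := ht j (hs hj)
      simp only [mul_eq_zero] at h3
      rcases h3 with (h | h) | h <;> omega
    · refine Finsupp.single_eq_of_ne fun he => hne ?_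
      exact hDinj l (hs hl) j (hs hj) (σ j) (hσ j (hs hj)) (t l) (t j) (ht l (hs hl)) (ht j (hs hj))
        (by rw [he]; exact hσr l (hs hl)) (hσr j (hs hj))
  · have hmem : ∀ a ∈ Δ, P.coroot a ∈ RootD.natSpan P.flip D := by
      intro a ha
      by_cases hi : RootD.IsIndiv P.flip a
      · exact root_mem_natSpan P.flip (S := D) ⟨a, ha, Or.inl ⟨rfl, hi⟩⟩
      · obtain ⟨l, -, hl⟩ := exists_half P.flip hi
        have hl' : (2 : ℤ) • P.coroot l = P.coroot a := hl.symm
        rw [← hl', two_smul]
        exact add_mem (root_mem_natSpan P.flip (S := D) ⟨a, ha, Or.inr hl'⟩)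
          (root_mem_natSpan P.flip (S := D) ⟨a, ha, Or.inr hl'⟩)
    have key : ∀ p ∈ RootD.posOf P Δ,
        (form P (P.root p) (P.root p)).toNat • P.coroot p ∈ RootD.natSpan P.flip D := by
      intro p hp
      rw [← natCast_zsmul, Int.toNat_of_nonneg (form_root_pos P p).le,
        form_smul_coroot_sum hΔ (coeff_sum hΔ p)]
      refine sum_mem fun a ha => ?_
      obtain ⟨z, hz⟩ := Int.eq_ofNat_of_zero_le
        (mul_nonneg ((mem_posOf_iff hΔ).1 hp a) (form_root_pos P a).le)
      dsimp only
      rw [hz, natCast_zsmul]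
      exact nsmul_mem (hmem a (coeff_supp hΔ p ha)) z
    by_cases hk : k ∈ RootD.posOf P Δ
    · exact ⟨_, by have := form_root_pos P k; omega, Or.inl (key k hk)⟩
    · refine ⟨(form P (P.root (ng P k)) (P.root (ng P k))).toNat,
        by have := form_root_pos P (ng P k); omega, Or.inr ?_⟩
      rw [← root_ng P.flip k]
      exact key _ ((not_mem_posOf_iff hΔ).1 hk)

omit hΔ

lemma smul_sub_eq_zero {u : P.Aut} (hfix : ∀ i : ι, u • i = i) {m : M} {n : ℕ}
    (h : n • (u • m - m) ∈ Submodule.span ℤ (Set.range P.root)) (hn : 0 < n) : u • m = m := by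
  have := torsionFree P
  have h0 : n • (u • m - m) = 0 := form_eq_zero_of_forall P h fun i => by
    rw [map_nsmul, map_sub]
    conv_lhs => arg 2; arg 1; rw [← hfix i]
    rw [coroot'_smul, sub_self, nsmul_zero]
  rw [nsmul_eq_zero_iff] at h0
  rcases h0 with h0 | h0
  · exact sub_eq_zero.1 h0
  · omega

end Groth.Agent.RootDLib
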