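import Groth.Agent.Lib.RootD.Weyl

/-!
`p`-morphisms of reduced root data.
-/

namespace Groth.Agent.RootDLib

open RootPairing Set Function

variable {ι M N ι' M' N' : Type*} [AddCommGroup M] [AddCommGroup N] [AddCommGroup M'] [AddCommGroup N']
  {P : RootPairing ι ℤ M N} {P' : RootPairing ι' ℤ M' N'}
  {f : M' →ₗ[ℤ] M} {g : N →ₗ[ℤ] N'} {u : ι ≃ ι'} {q : ι → ℕ}

lemma pmor_pairing (hfg : ∀ (m' : M') (n : N), P.toLinearMap (f m') n = P'.toLinearMap m' (g n))
    (hroot : ∀ i : ι, f (P'.root (u i)) = (q i : ℤ) • P.root i)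
    (hcoroot : ∀ i : ι, g (P.coroot i) = (q i : ℤ) • P'.coroot (u i)) (i j : ι) :
    (q j : ℤ) * P.pairing j i = q i * P'.pairing (u j) (u i) := by
  have := hfg (P'.root (u j)) (P.coroot i)
  rw [hroot, hcoroot] at this
  simpa using this

lemma pmor_reflectionPerm [Finite ι] [P.IsReduced]
    (hfg : ∀ (m' : M') (n : N), P.toLinearMap (f m') n = P'.toLinearMap m' (g n))
    (hroot : ∀ i : ι, f (P'.root (u i)) = (q i : ℤ) • P.root i)
    (hcoroot : ∀ i : ι, g (P.coroot i) = (q i : ℤ) • P'.coroot (u i))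
    (hq0 : ∀ i, 0 < q i) (i j : ι) :
    q (P.reflectionPerm i j) = q j ∧ u (P.reflectionPerm i j) = P'.reflectionPerm (u i) (u j) := by
  have := torsionFree P
  set k := u.symm (P'.reflectionPerm (u i) (u j)) with hk
  set z := P.reflectionPerm i j with hz
  have h1 : (q k : ℤ) • P.root k = (q j : ℤ) • P.root z := by
    rw [← hroot, hk, Equiv.apply_symm_apply, root_reflectionPerm, reflection_apply_root, map_sub,
      map_smul, hroot, hroot, hz, root_reflectionPerm, reflection_apply_root, smul_sub, smul_smul,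
      smul_smul, pmor_pairing hfg hroot hcoroot i j, mul_comm (q i : ℤ)]
  have hind : ∀ x, RootD.IsIndiv P x := fun x => by
    by_contra hc
    obtain ⟨y, -, hy⟩ := exists_half P hc
    exact P.nsmul_notMem_range_root (i := y) (n := 2) (⟨x, by rw [hy, ← natCast_zsmul]; rfl⟩)
  have hkz : k = z := by
    obtain ⟨c, hc⟩ := dvd_of_smul_eq_smul P (hind z)
      (by exact_mod_cast (hq0 k).ne' : (q k : ℤ) ≠ 0) h1
    have hcpos : 0 < c := by
      have h2 : (0 : ℤ) < q k := by exact_mod_cast hq0 k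
      have h3 : (0 : ℤ) < q j := by exact_mod_cast hq0 j
      rw [hc] at h3
      exact pos_of_mul_pos_right h3 h2.le
    rw [hc, mul_smul] at h1
    have h4 : P.root k = c • P.root z :=
      zsmul_right_injective (by exact_mod_cast (hq0 k).ne' : (q k : ℤ) ≠ 0) h1
    rcases smul_eq_root_of_mem_one_two P hcpos h4 with h | h
    · exact h
    · exact absurd (by rw [h4, h]) (fun he => hind k z he)
  rw [hkz] at h1
  refine ⟨?_, by rw [← hkz, hk, Equiv.apply_symm_apply]⟩
  have := congrArg (P.coroot' z) h1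
  simp at this
  exact_mod_cast this

end Groth.Agent.RootDLib
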