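import Groth.Agent.Lib.RootD.Weyl

/-!
Rationally saturated sets of roots, functionals, parabolic subgroups, completion of simple systems.
-/

namespace Groth.Agent.RootDLib

open RootPairing Set Function

variable {ι M N : Type*} [AddCommGroup M] [AddCommGroup N] {P : RootPairing ι ℤ M N}

/-- The pairings with all coroots, with rational values. -/
def coords (P : RootPairing ι ℤ M N) : M →ₗ[ℤ] (ι → ℚ) where
  toFun m j := ((P.coroot' j m : ℤ) : ℚ)
  map_add' x y := by ext; simp
  map_smul' c x := by ext; simp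

variable [Finite ι]

lemma coords_eq_zero {x : M} (hx : x ∈ Submodule.span ℤ (range P.root)) (h : coords P x = 0) :
    x = 0 :=
  form_eq_zero_of_forall P hx fun i => by
    have := congrFun h i
    simpa [coords] using this

lemma exists_hom_eq {Δ : Set ι} (hli : LinearIndepOn ℤ P.root Δ) (c : ι → ℚ) :
    ∃ f : M →+ ℚ, ∀ i ∈ Δ, f (P.root i) = c i := by
  have h1 : LinearIndependent ℤ (fun i : Δ => coords P (P.root i)) := by
    refine LinearIndependent.map hli ?_
    rw [Submodule.disjoint_def]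
    intro x hx hx'
    refine coords_eq_zero ?_ (LinearMap.mem_ker.1 hx')
    exact Submodule.span_mono (by rintro _ ⟨a, rfl⟩; exact ⟨a, rfl⟩) hx
  have h2 : LinearIndependent ℚ (fun i : Δ => coords P (P.root i)) :=
    (LinearIndependent.iff_fractionRing ℤ ℚ).1 h1
  obtain ⟨φ, hφ⟩ := LinearMap.exists_extend
    ((Module.Basis.span h2).constr ℚ fun i : Δ => c i)
  refine ⟨φ.toAddMonoidHom.comp (coords P).toAddMonoidHom, fun i hi => ?_⟩
  have := LinearMap.congr_fun hφ (Module.Basis.span h2 ⟨i, hi⟩)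
  rw [Module.Basis.constr_basis] at this
  simpa [Module.Basis.span_apply] using this

lemma exists_hom_of_not_mem {Q : Submodule ℤ M} (hQ : Q ≤ Submodule.span ℤ (range P.root)) {x : M}
    (hx : x ∈ Submodule.span ℤ (range P.root)) (h : ∀ n : ℕ, 0 < n → n • x ∉ Q) :
    ∃ f : M →+ ℚ, (∀ y ∈ Q, f y = 0) ∧ f x ≠ 0 := by
  set V : Submodule ℚ (ι → ℚ) := Submodule.span ℚ (coords P '' Q) with hV
  have hclear : ∀ v ∈ V, ∃ n : ℕ, 0 < n ∧ ∃ y ∈ Q, (n : ℚ) • v = coords P y := by
    intro v hv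
    induction hv using Submodule.span_induction with
    | mem v hv => obtain ⟨y, hy, rfl⟩ := hv; exact ⟨1, one_pos, y, hy, by simp⟩
    | zero => exact ⟨1, one_pos, 0, zero_mem _, by simp⟩
    | add v w _ _ hv hw =>
      obtain ⟨n, hn, y, hy, e⟩ := hv
      obtain ⟨m, hm, z, hz, e'⟩ := hw
      refine ⟨n * m, Nat.mul_pos hn hm, (m : ℤ) • y + (n : ℤ) • z,
        add_mem (Q.smul_mem _ hy) (Q.smul_mem _ hz), ?_⟩
      rw [map_add, map_smul, map_smul, ← e, ← e', smul_add]
      simp only [← Int.cast_smul_eq_zsmul ℚ, smul_smul, Int.cast_natCast, Nat.cast_mul]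
      rw [mul_comm (n : ℚ) m]
    | smul q v _ hv =>
      obtain ⟨n, hn, y, hy, e⟩ := hv
      refine ⟨n * q.den, Nat.mul_pos hn q.den_pos, q.num • y, Q.smul_mem _ hy, ?_⟩
      rw [map_smul, ← e, ← Int.cast_smul_eq_zsmul ℚ, smul_smul, smul_smul, Nat.cast_mul,
        mul_assoc, mul_comm (q.den : ℚ) q, Rat.mul_den_eq_num, mul_comm]
  have hxV : coords P x ∉ V := fun hxV => by
    obtain ⟨n, hn, y, hy, e⟩ := hclear _ hxV
    refine h n hn ?_
    have h0 : n • x - y = 0 := coords_eq_zero (sub_mem (nsmul_mem hx n) (hQ hy)) (by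
      rw [map_sub, map_nsmul, ← Nat.cast_smul_eq_nsmul ℚ, e, sub_self])
    rwa [sub_eq_zero.1 h0]
  obtain ⟨φ, hφ, hφV⟩ := Submodule.exists_dual_map_eq_bot_of_notMem hxV inferInstance
  refine ⟨φ.toAddMonoidHom.comp (coords P).toAddMonoidHom, fun y hy => ?_, hφ⟩
  have : φ (coords P y) ∈ V.map φ :=
    Submodule.mem_map_of_mem (Submodule.subset_span ⟨y, hy, rfl⟩)
  rw [hφV] at this
  simpa using this

/-- A functional vanishing exactly on the roots of a rationally saturated set. -/
lemma exists_hom_zero_iff {R' : Set ι}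
    (hsat : ∀ k : ι, (∃ n : ℕ, 0 < n ∧ n • P.root k ∈ Submodule.span ℤ (P.root '' R')) → k ∈ R') :
    ∃ f : M →+ ℚ, ∀ k : ι, f (P.root k) = 0 ↔ k ∈ R' := by
  classical
  let _ := Fintype.ofFinite ι
  let K : AddSubgroup (M →+ ℚ) :=
  { carrier := {f | ∀ k ∈ R', f (P.root k) = 0}
    add_mem' := fun hf hg k hk => by simp [hf k hk, hg k hk]
    zero_mem' := fun k hk => rfl
    neg_mem' := fun hf k hk => by simp [hf k hk] }
  obtain ⟨f, hf, hne⟩ := exists_hom_ne_zero K (Finset.univ.filter (fun k => k ∉ R')) P.root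
    fun j hj => by
      obtain ⟨g, hg, hgj⟩ := exists_hom_of_not_mem (P := P)
        (Q := Submodule.span ℤ (P.root '' R')) (Submodule.span_mono (image_subset_range _ _))
        (root_mem P j) (fun n hn hmem => (Finset.mem_filter.1 hj).2 (hsat j ⟨n, hn, hmem⟩))
      exact ⟨g, fun k hk => hg _ (Submodule.subset_span ⟨k, hk, rfl⟩), hgj⟩
  refine ⟨f, fun k => ⟨fun h => ?_, hf k⟩⟩
  by_contra hc
  exact hne k (by simp [hc]) h

/-- Positive system defined by a lexicographic pair of functionals. -/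
lemma isPosSys_lex {f g : M →+ ℚ} (h : ∀ i, f (P.root i) = 0 → g (P.root i) ≠ 0) :
    RootD.IsPosSys P {i | 0 < f (P.root i) ∨ (f (P.root i) = 0 ∧ 0 < g (P.root i))} := by
  refine isPosSys_of_closed (fun i hi hn => ?_) (fun i => ?_) (fun i j k hi hj hk => ?_)
  · simp only [mem_setOf_eq, root_ng, map_neg, neg_eq_zero, Left.neg_pos_iff] at hi hn
    rcases hi with h1 | ⟨h1, h2⟩ <;> rcases hn with h3 | ⟨h3, h4⟩ <;> linarith
  · simp only [mem_setOf_eq, root_ng, map_neg, neg_eq_zero, Left.neg_pos_iff]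
    rcases lt_trichotomy (f (P.root i)) 0 with h1 | h1 | h1
    · exact Or.inr (Or.inl h1)
    · rcases (h i h1).lt_or_gt with h2 | h2
      · exact Or.inr (Or.inr ⟨h1, h2⟩)
      · exact Or.inl (Or.inr ⟨h1, h2⟩)
    · exact Or.inl (Or.inl h1)
  · simp only [mem_setOf_eq] at *
    rw [hk, map_add, map_add]
    rcases hi with h1 | ⟨h1, h2⟩ <;> rcases hj with h3 | ⟨h3, h4⟩
    · left; linarith
    · left; linarith
    · left; linarith
    · right; constructor <;> linarith

lemma sub_simple_extends (R' : Set ι)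
    (hsat : ∀ k : ι, (∃ n : ℕ, 0 < n ∧ n • P.root k ∈ Submodule.span ℤ (P.root '' R')) → k ∈ R')
    (Δ' : Set ι) (hsub : Δ' ⊆ R') (hli : LinearIndepOn ℤ P.root Δ')
    (hgen : ∀ k ∈ R', P.root k ∈ RootD.natSpan P Δ' ∨ -P.root k ∈ RootD.natSpan P Δ') :
    ∃ Δ : Set ι, RootD.IsSimpleSys P Δ ∧ Δ' ⊆ Δ ∧ R' = RootD.inSpan P Δ' := by
  obtain ⟨f, hf⟩ := exists_hom_zero_iff hsat
  obtain ⟨g, hg⟩ := exists_hom_eq hli fun _ => 1
  have hsum : ∀ l : List ι, (∀ a ∈ l, a ∈ Δ') → g ((l.map P.root).sum) = l.length := by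
    intro l hl
    induction l with
    | nil => simp
    | cons a t ih =>
      rw [List.map_cons, List.sum_cons, map_add, hg a (hl a List.mem_cons_self),
        ih fun b hb => hl b (List.mem_cons_of_mem _ hb)]
      simp [add_comm]
  have hint : ∀ x ∈ RootD.natSpan P Δ', x ≠ 0 → 1 ≤ g x := by
    intro x hx hne
    obtain ⟨l, hl, rfl⟩ := (mem_natSpan_iff P).1 hx
    rw [hsum l hl]
    have : l ≠ [] := by rintro rfl; simp at hne
    exact_mod_cast List.length_pos_iff.2 this
  have hR : ∀ k ∈ R', 1 ≤ g (P.root k) ∨ g (P.root k) ≤ -1 := by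
    intro k hk
    refine (hgen k hk).imp (fun h => hint _ h (root_ne_zero P k)) fun h => ?_
    have := hint _ h (neg_ne_zero.2 (root_ne_zero P k))
    rw [map_neg] at this; linarith
  have hS := isPosSys_lex (P := P) (f := f) (g := g) fun i hi => by
    rcases hR i ((hf i).1 hi) with h | h <;> intro h0 <;> linarith
  refine ⟨_, isSimpleSys_indec hS, fun a ha => ⟨Or.inr ⟨(hf a).2 (hsub ha), by rw [hg a ha]; norm_num⟩, ?_⟩, ?_⟩
  · rintro ⟨b, hb, c, hc, hbc⟩
    have h0 : f (P.root b) + f (P.root c) = 0 := by rw [← map_add, ← hbc]; exact (hf a).2 (hsub ha)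
    have h1 : g (P.root b) + g (P.root c) = 1 := by rw [← map_add, ← hbc, hg a ha]
    simp only [mem_setOf_eq] at hb hc
    have hb0 : f (P.root b) = 0 ∧ 0 < g (P.root b) ∧ f (P.root c) = 0 ∧ 0 < g (P.root c) := by
      rcases hb with hb | ⟨hb1, hb2⟩ <;> rcases hc with hc | ⟨hc1, hc2⟩
      · linarith
      · linarith
      · linarith
      · exact ⟨hb1, hb2, hc1, hc2⟩
    rcases hR b ((hf b).1 hb0.1) with hb' | hb' <;> rcases hR c ((hf c).1 hb0.2.2.1) with hc' | hc' <;>
      linarith [hb0.2.1, hb0.2.2.2]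
  · refine Subset.antisymm (fun k hk => ?_) fun k hk => ?_
    · rcases hgen k hk with h | h
      · exact natSpan_le_span P Δ' h
      · exact neg_mem_iff.1 (natSpan_le_span P Δ' h)
    · exact hsat k ⟨1, one_pos, by rw [one_smul]; exact Submodule.span_mono (image_mono hsub) hk⟩

variable {Δ : Set ι} (hΔ : RootD.IsSimpleSys P Δ)
include hΔ

omit [Finite ι] in
lemma mem_span_iff {Δ' : Set ι} (hsub : Δ' ⊆ Δ) {k : ι} :
    P.root k ∈ Submodule.span ℤ (P.root '' Δ') ↔ ↑(coeff hΔ k).support ⊆ Δ' := by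
  rw [Finsupp.mem_span_image_iff_linearCombination]
  constructor
  · rintro ⟨c, hc, he⟩
    rw [Finsupp.mem_supported] at hc
    rwa [coeff_eq hΔ (hc.trans hsub) he]
  · exact fun h => ⟨_, (Finsupp.mem_supported ℤ _).2 h, coeff_sum hΔ k⟩

omit [Finite ι] in
lemma coeff_apply_eq_zero {k a : ι} (h : a ∉ Δ) : coeff hΔ k a = 0 :=
  Finsupp.notMem_support_iff.1 fun h' => h (coeff_supp hΔ k h')

omit [Finite ι] in
lemma coeff_eq_zero_of_mem_span {Δ' : Set ι} (hsub : Δ' ⊆ Δ) {k a : ι}
    (hk : k ∈ RootD.inSpan P Δ') (ha : a ∉ Δ') : coeff hΔ k a = 0 :=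
  Finsupp.notMem_support_iff.1 fun h' => ha ((mem_span_iff hΔ hsub).1 hk h')

omit [Finite ι] in
lemma inSpan_saturated {Δ' : Set ι} (hsub : Δ' ⊆ Δ) {k : ι} {n : ℕ} (hn : 0 < n)
    (h : n • P.root k ∈ Submodule.span ℤ (P.root '' RootD.inSpan P Δ')) :
    k ∈ RootD.inSpan P Δ' := by
  classical
  have hle : Submodule.span ℤ (P.root '' RootD.inSpan P Δ') ≤ Submodule.span ℤ (P.root '' Δ') :=
    Submodule.span_le.2 (by rintro _ ⟨a, ha, rfl⟩; exact ha)
  obtain ⟨c, hc, he⟩ := (Finsupp.mem_span_image_iff_linearCombination ℤ).1 (hle h)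
  rw [Finsupp.mem_supported] at hc
  have h2 := coeff_unique hΔ (c := c) (d := (n : ℤ) • coeff hΔ k) (hc.trans hsub)
    ((Finset.coe_subset.2 Finsupp.support_smul).trans (coeff_supp hΔ k))
    (by rw [he, map_smul, coeff_sum, natCast_zsmul])
  rw [h2, Finsupp.support_smul_eq (by omega : (n : ℤ) ≠ 0)] at hc
  exact (mem_span_iff hΔ hsub).2 hc

lemma reflect_parabolic {Δ' : Set ι} (hsub : Δ' ⊆ Δ) {i k : ι} (hi : i ∈ Δ')
    (hk : k ∈ RootD.posOf P Δ) (hk' : k ∉ RootD.inSpan P Δ') :
    P.reflectionPerm i k ∈ RootD.posOf P Δ ∧ P.reflectionPerm i k ∉ RootD.inSpan P Δ' := by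
  have hiS : P.root i ∈ Submodule.span ℤ (P.root '' Δ') := Submodule.subset_span ⟨i, hi, rfl⟩
  refine ⟨reflect_mem_posOf (hsub hi) hk (fun h => hk' ?_) (fun h => hk' ?_) hΔ, fun h => hk' ?_⟩
  · subst h; exact hiS
  · show P.root k ∈ Submodule.span ℤ (P.root '' Δ')
    rw [h]; exact Submodule.smul_mem _ _ hiS
  · show P.root k ∈ Submodule.span ℤ (P.root '' Δ')
    have : P.root k = P.root (P.reflectionPerm i k) + P.pairing k i • P.root i := by
      rw [root_reflectionPerm, reflection_apply_root, sub_add_cancel]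
    rw [this]; exact add_mem h (Submodule.smul_mem _ _ hiS)

lemma parabolic_mapsTo {Δ' : Set ι} (hsub : Δ' ⊆ Δ) {g : P.Aut}
    (hg : g ∈ Subgroup.closure ((fun i : ι => Equiv.reflection P i) '' Δ'))
    {k : ι} (hk : k ∈ RootD.posOf P Δ) (hk' : k ∉ RootD.inSpan P Δ') :
    g • k ∈ RootD.posOf P Δ ∧ g • k ∉ RootD.inSpan P Δ' := by
  obtain ⟨l, hl, rfl⟩ := exists_word hg
  clear hg
  induction l with
  | nil => simpa using ⟨hk, hk'⟩
  | cons a t ih =>
    obtain ⟨h1, h2⟩ := ih fun b hb => hl b (List.mem_cons_of_mem _ hb)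
    rw [wprod_cons, mul_smul, refl_smul]
    exact reflect_parabolic hΔ hsub (hl a List.mem_cons_self) h1 h2

lemma smul_sub_mem_span {Δ' : Set ι} {g : P.Aut}
    (hg : g ∈ Subgroup.closure ((fun i : ι => Equiv.reflection P i) '' Δ')) (m : M) :
    g • m - m ∈ Submodule.span ℤ (P.root '' Δ') := by
  obtain ⟨l, hl, rfl⟩ := exists_word hg
  clear hg
  induction l with
  | nil => simp
  | cons a t ih =>
    have := ih fun b hb => hl b (List.mem_cons_of_mem _ hb)
    rw [wprod_cons, mul_smul, Equiv.reflection_smul, reflection_apply, sub_right_comm]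
    exact sub_mem this (Submodule.smul_mem _ _ (Submodule.subset_span
      ⟨a, hl a List.mem_cons_self, rfl⟩))

lemma mem_parabolic {Δ' : Set ι} (hsub : Δ' ⊆ Δ) {g : P.Aut} (hg : g ∈ P.weylGroup)
    (h : ∀ k : ι, ∃ n : ℕ, 0 < n ∧
      n • (P.root (g • k) - P.root k) ∈ Submodule.span ℤ (P.root '' Δ')) :
    g ∈ Subgroup.closure ((fun i : ι => Equiv.reflection P i) '' Δ') := by
  rw [← closure_simple_eq hΔ] at hg
  obtain ⟨l, hl, rfl, hmin⟩ := exists_minimal_word hg
  clear hg
  suffices h' : ∀ a ∈ l, a ∈ Δ' from wprod_mem h'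
  induction l using List.reverseRecOn with
  | nil => simp
  | append_singleton t a ih =>
    have hta := fun x hx => hl x (List.mem_append_left [a] hx)
    have ha : a ∈ Δ := hl a (by simp)
    obtain ⟨hp, he⟩ := minimal_last_neg hΔ subset_rfl hta ha hmin
    have haΔ' : a ∈ Δ' := by
      by_contra hc
      obtain ⟨n, hn, hm⟩ := h a
      obtain ⟨c, hc', hce⟩ := (Finsupp.mem_span_image_iff_linearCombination ℤ).1 hm
      rw [Finsupp.mem_supported] at hc'
      classical
      set d := (n : ℤ) • (coeff hΔ (wprod P t • a) + Finsupp.single a 1) with hd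
      have h2 : c = -d := by
        refine coeff_unique hΔ (hc'.trans hsub) ?_ ?_
        · rw [Finsupp.support_neg]
          refine (Finset.coe_subset.2 (Finsupp.support_smul.trans Finsupp.support_add)).trans ?_
          rw [Finset.coe_union, union_subset_iff]
          refine ⟨coeff_supp hΔ _, ?_⟩
          intro x hx
          have := Finsupp.support_single_subset hx
          simp at this; exact this ▸ ha
        · rw [hce, he, hd]
          simp [coeff_sum, smul_sub, smul_add]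
          abel
      have hca : c a = 0 := Finsupp.notMem_support_iff.1 fun hx => hc (hc' hx)
      have := (mem_posOf_iff hΔ).1 hp a
      rw [h2, hd] at hca
      simp at hca this
      nlinarith
    intro x hx
    rcases List.mem_append.1 hx with hx | hx
    · refine ih hta (fun k => ?_) (fun l' hl' he' => ?_) x hx
      · obtain ⟨n, hn, hm⟩ := h (Equiv.reflection P a • k)
        refine ⟨n, hn, ?_⟩
        rw [← mul_smul, wprod_append, wprod_cons, wprod_nil, mul_one, mul_assoc, refl_mul_self,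
          mul_one, refl_smul, root_reflectionPerm, reflection_apply_root] at hm
        have h1 : n • (P.root (wprod P t • k) - P.root k) =
            n • (P.root (wprod P t • k) - (P.root k - P.pairing k a • P.root a)) -
              n • (P.pairing k a • P.root a) := by rw [← smul_sub]; congr 1; abel
        rw [h1]
        exact sub_mem hm (nsmul_mem (Submodule.smul_mem (Submodule.span ℤ (P.root '' Δ')) _
          (Submodule.subset_span (mem_image_of_mem P.root haΔ'))) n)
      · have := hmin (l' ++ [a]) (fun b hb => by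
          rcases List.mem_append.1 hb with hb | hb
          · exact hl' b hb
          · simp at hb; exact hb ▸ ha) (by simp [he'])
        simp at this; omega
    · simp at hx; exact hx ▸ haΔ'

lemma mem_inSpan_or {Δ' : Set ι} (hsub : Δ' ⊆ Δ)
    (horth : ∀ i ∈ Δ', ∀ j ∈ Δ \ Δ', P.IsOrthogonal i j) (k : ι) :
    k ∈ RootD.inSpan P Δ' ∨ k ∈ RootD.inSpan P (Δ \ Δ') := by
  suffices h : ∀ n : ℕ, ∀ k ∈ RootD.posOf P Δ, (ht hΔ k).toNat = n →
      k ∈ RootD.inSpan P Δ' ∨ k ∈ RootD.inSpan P (Δ \ Δ') by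
    by_cases hp : k ∈ RootD.posOf P Δ
    · exact h _ k hp rfl
    · refine (h _ _ ((not_mem_posOf_iff hΔ).1 hp) rfl).imp (fun h' => ?_) fun h' => ?_ <;>
      · change P.root _ ∈ Submodule.span ℤ _ at h' ⊢
        rwa [root_ng, neg_mem_iff] at h'
  intro n
  induction n using Nat.strong_induction_on with
  | _ n ih =>
    intro k hp hn
    by_cases hkΔ : k ∈ Δ
    · by_cases hk : k ∈ Δ'
      · exact Or.inl (Submodule.subset_span ⟨k, hk, rfl⟩)
      · exact Or.inr (Submodule.subset_span ⟨k, ⟨hkΔ, hk⟩, rfl⟩)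
    obtain ⟨i, hi, hpos, b, hb, he⟩ := exists_sub_simple hΔ hp hkΔ
    have h1 := ht_pos hΔ hb
    have h2 : ht hΔ k = ht hΔ b + 1 := by
      rw [← ht_simple hΔ hi]; simp [ht, coeff_add hΔ he]
    have horth' : ∀ (T : Set ι), (∀ j ∈ T, P.pairing j i = 0) → b ∈ RootD.inSpan P T →
        P.pairing b i = 0 := by
      intro T hT hbT
      have hle : Submodule.span ℤ (P.root '' T) ≤ LinearMap.ker (P.coroot' i) :=
        Submodule.span_le.2 (by rintro _ ⟨j, hj, rfl⟩; simp [hT j hj])
      simpa using hle hbT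
    have htwo : P.pairing k i = P.pairing b i + 2 := by
      rw [pairing_eq_add_of_root_eq_add he, pairing_same]
    have key : ∀ T : Set ι, T ⊆ Δ → b ∈ RootD.inSpan P T → i ∉ T →
        (∀ j ∈ T, P.pairing j i = 0) → False := by
      intro T hT hbT hiT hperp
      have h0 := horth' T hperp hbT
      have hc := coeff_eq_zero_of_mem_span hΔ hT hbT hiT
      have hbi : b ≠ i := fun h => by simp [h, coeff_simple hΔ hi] at hc
      have hp' : P.reflectionPerm i k ∈ RootD.posOf P Δ :=
        reflect_mem_posOf hi hp (fun h => hkΔ (h ▸ hi))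
          (fun h => hbi (P.root.injective (by rw [he, two_smul] at h; exact add_right_cancel h))) hΔ
      have hge := (mem_posOf_iff hΔ).1 hp' i
      simp [coeff_reflectionPerm, coeff_add hΔ he, coeff_simple hΔ hi, hc, htwo, h0] at hge
    have hadd : ∀ T : Set ι, b ∈ RootD.inSpan P T → i ∈ T → k ∈ RootD.inSpan P T := by
      intro T hbT hiT
      show P.root k ∈ Submodule.span ℤ (P.root '' T)
      rw [he]
      exact add_mem hbT (Submodule.subset_span ⟨i, hiT, rfl⟩)
    rcases ih _ (by omega) b hb rfl with h | h <;> by_cases hiΔ' : i ∈ Δ'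
    · exact Or.inl (hadd _ h hiΔ')
    · exact (key _ hsub h hiΔ' fun j hj => (horth j hj i ⟨hi, hiΔ'⟩).1).elim
    · exact (key _ diff_subset h (fun h => h.2 hiΔ') fun j hj => (horth i hiΔ' j hj).2).elim
    · exact Or.inr (hadd _ h ⟨hi, hiΔ'⟩)

end Groth.Agent.RootDLib
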