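import Mathlib.LinearAlgebra.RootSystem.WeylGroup
import Mathlib.LinearAlgebra.RootSystem.BaseExists

/-!
Generalities on automorphisms of root pairings over an arbitrary base ring.
-/

namespace Groth.Agent.RootDLib

open RootPairing Set Function

variable {ι R M N : Type*} [CommRing R] [AddCommGroup M] [Module R M] [AddCommGroup N] [Module R N]
  {P : RootPairing ι R M N}

lemma refl_smul (i k : ι) : Equiv.reflection P i • k = P.reflectionPerm i k := rfl

lemma smul_root (g : P.Aut) (i : ι) : g • P.root i = P.root (g • i) :=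
  (Equiv.root_indexEquiv_eq_smul P i g).symm

lemma coroot'_smul (g : P.Aut) (j : ι) (m : M) :
    P.coroot' (g • j) (g • m) = P.coroot' j m := by
  have h := LinearMap.congr_fun
    (Hom.weight_coweight_transpose_apply P P (P.coroot (g • j)) g.toHom) m
  have he : g.indexEquiv.symm (g • j) = j := g.indexEquiv.symm_apply_apply j
  rw [Hom.coroot_coweightMap_apply, he] at h
  exact h

lemma pairing_smul (g : P.Aut) (i j : ι) : P.pairing (g • i) (g • j) = P.pairing i j := by
  simpa [smul_root] using coroot'_smul g j (P.root i)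

lemma aut_ext {g g' : P.Aut} (h : ∀ m : M, g • m = g' • m) : g = g' :=
  Equiv.weightHom_injective P (LinearEquiv.ext h)

/-- Conjugating a reflection by an automorphism. -/
lemma conj_reflection (u : P.Aut) (i : ι) :
    u * Equiv.reflection P i * u⁻¹ = Equiv.reflection P (u • i) := by
  refine aut_ext fun m => ?_
  rw [mul_smul, mul_smul, Equiv.reflection_smul, Equiv.reflection_smul, reflection_apply,
    reflection_apply, smul_sub, smul_inv_smul, smul_comm, smul_root]
  congr 2
  conv_rhs => rw [← smul_inv_smul u m]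
  rw [coroot'_smul]

/-- A product of reflections. -/
noncomputable def wprod (P : RootPairing ι R M N) (l : List ι) : P.Aut :=
  (l.map fun a => Equiv.reflection P a).prod

@[simp] lemma wprod_nil : wprod P ([] : List ι) = 1 := rfl

@[simp] lemma wprod_cons (a : ι) (l : List ι) :
    wprod P (a :: l) = Equiv.reflection P a * wprod P l := by simp [wprod]

@[simp] lemma wprod_append (l l' : List ι) : wprod P (l ++ l') = wprod P l * wprod P l' := by
  simp [wprod]

lemma wprod_mem {T : Set ι} {l : List ι} (h : ∀ a ∈ l, a ∈ T) :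
    wprod P l ∈ Subgroup.closure ((fun i : ι => Equiv.reflection P i) '' T) := by
  refine Subgroup.list_prod_mem _ fun x hx => ?_
  obtain ⟨a, ha, rfl⟩ := List.mem_map.1 hx
  exact Subgroup.subset_closure ⟨a, h a ha, rfl⟩

lemma refl_mul_self (i : ι) : Equiv.reflection P i * Equiv.reflection P i = 1 := by
  rw [mul_eq_one_iff_eq_inv, Equiv.reflection_inv]

lemma exists_word {T : Set ι} {g : P.Aut}
    (hg : g ∈ Subgroup.closure ((fun i : ι => Equiv.reflection P i) '' T)) :
    ∃ l : List ι, (∀ a ∈ l, a ∈ T) ∧ wprod P l = g := by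
  induction hg using Subgroup.closure_induction'' with
  | one => exact ⟨[], by simp, rfl⟩
  | mem x hx => obtain ⟨a, ha, rfl⟩ := hx; exact ⟨[a], by simpa, by simp⟩
  | inv_mem x hx => obtain ⟨a, ha, rfl⟩ := hx; exact ⟨[a], by simpa, by simp⟩
  | mul x y _ _ hx hy =>
    obtain ⟨l, hl, rfl⟩ := hx
    obtain ⟨l', hl', rfl⟩ := hy
    exact ⟨l ++ l', by simpa [or_imp, forall_and] using ⟨hl, hl'⟩, by simp⟩

lemma exists_minimal_word {T : Set ι} {g : P.Aut}
    (hg : g ∈ Subgroup.closure ((fun i : ι => Equiv.reflection P i) '' T)) :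
    ∃ l : List ι, (∀ a ∈ l, a ∈ T) ∧ wprod P l = g ∧
      ∀ l' : List ι, (∀ a ∈ l', a ∈ T) → wprod P l' = g → l.length ≤ l'.length := by
  classical
  obtain ⟨l, hl⟩ := exists_word hg
  have hex : ∃ n, ∃ l : List ι, (∀ a ∈ l, a ∈ T) ∧ wprod P l = g ∧ l.length = n :=
    ⟨_, l, hl.1, hl.2, rfl⟩
  obtain ⟨l₀, h1, h2, h3⟩ := Nat.find_spec hex
  exact ⟨l₀, h1, h2, fun l' a b => h3 ▸ Nat.find_min' hex ⟨l', a, b, rfl⟩⟩

lemma weylGroup_eq_closure : P.weylGroup =
    Subgroup.closure ((fun i : ι => Equiv.reflection P i) '' univ) := by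
  rw [image_univ]; rfl

end Groth.Agent.RootDLib
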