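import Groth.Agent.Lib.RootD.Simple
import Groth.Agent.Lib.RootD.Aut

/-!
The Weyl group of a finite root pairing over `ℤ`: exchange condition, generation by simple
reflections, simple transitivity on positive systems, existence of positive systems.
-/

namespace Groth.Agent.RootDLib

open RootPairing Set Function

variable {ι M N : Type*} [AddCommGroup M] [AddCommGroup N] {P : RootPairing ι ℤ M N}

lemma ng_eq_smul (i : ι) : ng P i = Equiv.reflection P i • i := rfl

lemma smul_ng (g : P.Aut) (i : ι) : g • ng P i = ng P (g • i) :=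
  P.root.injective (by rw [← smul_root, root_ng, root_ng, smul_neg, smul_root])

lemma isIndiv_smul {g : P.Aut} {i : ι} (h : RootD.IsIndiv P i) : RootD.IsIndiv P (g • i) :=
  fun j hj => h (g⁻¹ • j) (by rw [← smul_root, ← smul_comm, hj, smul_root, inv_smul_smul])

lemma smul_mem_natSpan (g : P.Aut) {S : Set ι} {x : M} (hx : x ∈ RootD.natSpan P S) :
    g • x ∈ RootD.natSpan P ((fun i : ι => g • i) '' S) := by
  induction hx using AddSubmonoid.closure_induction with
  | mem y hy =>
    obtain ⟨a, ha, rfl⟩ := hy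
    rw [smul_root]; exact root_mem_natSpan P ⟨a, ha, rfl⟩
  | zero => rw [smul_zero]; exact zero_mem _
  | add y z _ _ hy hz => rw [smul_add]; exact add_mem hy hz

lemma mem_natSpan_image {g : P.Aut} {S : Set ι} {x : M} :
    x ∈ RootD.natSpan P ((fun i : ι => g • i) '' S) ↔ g⁻¹ • x ∈ RootD.natSpan P S := by
  refine ⟨fun h => ?_, fun h => ?_⟩
  · simpa [image_image] using smul_mem_natSpan g⁻¹ h
  · simpa using smul_mem_natSpan g h

lemma mem_image_smul {g : P.Aut} {S : Set ι} {k : ι} :
    k ∈ (fun i : ι => g • i) '' S ↔ g⁻¹ • k ∈ S := by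
  constructor
  · rintro ⟨a, ha, rfl⟩; simpa
  · exact fun h => ⟨_, h, smul_inv_smul g k⟩

lemma posOf_image (g : P.Aut) (Δ : Set ι) :
    RootD.posOf P ((fun i : ι => g • i) '' Δ) = (fun i : ι => g • i) '' RootD.posOf P Δ := by
  ext k
  rw [mem_image_smul]
  change P.root k ∈ RootD.natSpan P _ ↔ P.root (g⁻¹ • k) ∈ RootD.natSpan P _
  rw [mem_natSpan_image, smul_root]

lemma isPosSys_image (g : P.Aut) {S : Set ι} (hS : RootD.IsPosSys P S) :
    RootD.IsPosSys P ((fun i : ι => g • i) '' S) := by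
  refine ⟨fun i hi hn => ?_, fun i => ?_, fun k n hn hk => ?_⟩
  · rw [mem_image_smul] at hi hn
    change g⁻¹ • ng P i ∈ S at hn
    rw [smul_ng] at hn
    exact hS.disjoint hi hn
  · rw [mem_image_smul, mem_image_smul]
    refine (hS.cover (g⁻¹ • i)).imp_right fun h => ?_
    change g⁻¹ • ng P i ∈ S
    rwa [smul_ng]
  · rw [mem_image_smul]
    refine hS.sat n hn ?_
    rw [← smul_root, ← smul_comm]
    exact mem_natSpan_image.1 hk

lemma isSimpleSys_image (g : P.Aut) {Δ : Set ι} (hΔ : RootD.IsSimpleSys P Δ) :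
    RootD.IsSimpleSys P ((fun i : ι => g • i) '' Δ) := by
  refine ⟨?_, fun i => ?_⟩
  · refine LinearIndepOn.image_of_comp (fun i : ι => g • i) P.root ?_
    exact (hΔ.linInd.map_injOn (Equiv.weightHom P g).toLinearMap
      (LinearEquiv.injective _).injOn).congr fun i _ => smul_root g i
  · rw [mem_natSpan_image, mem_natSpan_image, smul_neg, smul_root]
    exact hΔ.mem_or_neg_mem _

/-! ### Existence of positive systems -/

lemma exists_hom_ne_zero {A : Type*} [AddCommGroup A] (K : AddSubgroup (A →+ ℚ)) {J : Type*}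
    (s : Finset J) (x : J → A) (h : ∀ j ∈ s, ∃ f ∈ K, f (x j) ≠ 0) :
    ∃ f ∈ K, ∀ j ∈ s, f (x j) ≠ 0 := by
  classical
  induction s using Finset.induction_on with
  | empty => exact ⟨0, zero_mem K, by simp⟩
  | insert a t hat ih =>
    obtain ⟨f, hf, hft⟩ := ih fun j hj => h j (Finset.mem_insert_of_mem hj)
    obtain ⟨g, hg, hga⟩ := h a (Finset.mem_insert_self a t)
    obtain ⟨n, hn⟩ := Infinite.exists_notMem_finset
      ((insert a t).image fun j => (-f (x j) / g (x j)))
      |>.imp' (fun q : ℚ => q) fun q hq => hq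
    obtain ⟨m, hm⟩ : ∃ m : ℤ, (m : ℚ) ∉ (insert a t).image fun j => (-f (x j) / g (x j)) := by
      obtain ⟨m, hm⟩ := Infinite.exists_notMem_finset
        (((insert a t).image fun j => (-f (x j) / g (x j))).preimage (fun m : ℤ => (m : ℚ))
          Int.cast_injective.injOn)
      exact ⟨m, by simpa using hm⟩
    refine ⟨f + m • g, add_mem hf (zsmul_mem hg m), fun j hj => ?_⟩
    simp only [AddMonoidHom.add_apply, AddMonoidHom.smul_apply, zsmul_eq_mul]
    intro h0
    by_cases hgj : g (x j) = 0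
    · rw [hgj, mul_zero, add_zero] at h0
      rcases Finset.mem_insert.1 hj with rfl | hj'
      · exact hga hgj
      · exact hft j hj' h0
    · refine hm (Finset.mem_image.2 ⟨j, hj, ?_⟩)
      field_simp
      linarith

variable [Finite ι]

lemma exists_hom_root_ne_zero : ∃ f : M →+ ℚ, ∀ i, f (P.root i) ≠ 0 := by
  let _ := Fintype.ofFinite ι
  obtain ⟨f, -, hf⟩ := exists_hom_ne_zero (⊤ : AddSubgroup (M →+ ℚ)) Finset.univ P.root
    fun j _ => ⟨(Int.castAddHom ℚ).comp (P.coroot' j).toAddMonoidHom, trivial, by simp⟩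
  exact ⟨f, fun i => hf i (Finset.mem_univ i)⟩

lemma isPosSys_of_hom {G : Type*} [AddCommGroup G] [PartialOrder G] [IsOrderedAddMonoid G]
    (φ : M →+ G) (hφ : ∀ i : ι, 0 < φ (P.root i) ∨ φ (P.root i) < 0) :
    RootD.IsPosSys P {i : ι | 0 < φ (P.root i)} := by
  refine isPosSys_of_closed (fun i hi hn => ?_) (fun i => ?_) (fun i j k hi hj hk => ?_)
  · simp only [mem_setOf_eq, root_ng, map_neg, Left.neg_pos_iff] at hi hn
    exact lt_asymm hi hn
  · refine (hφ i).imp_right fun h => ?_
    simpa [root_ng] using h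
  · simp only [mem_setOf_eq] at *
    rw [hk, map_add]; exact add_pos hi hj

lemma exists_isPosSys : ∃ S, RootD.IsPosSys P S := by
  obtain ⟨f, hf⟩ := exists_hom_root_ne_zero (P := P)
  exact ⟨_, isPosSys_of_hom f fun i => (hf i).lt_or_gt.symm⟩

lemma exists_isSimpleSys : ∃ Δ, RootD.IsSimpleSys P Δ :=
  exists_isPosSys.elim fun _ hS => ⟨_, isSimpleSys_indec hS⟩

/-! ### Exchange -/

lemma refl_eq_of_double {i j : ι} (h : P.root i = (2 : ℤ) • P.root j) :
    Equiv.reflection P i = Equiv.reflection P j := by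
  have := torsionFree' P
  have hc : (2 : ℤ) • P.coroot i = P.coroot j := P.smul_coroot_eq_of_root_eq_smul j i 2 h
  refine aut_ext fun m => ?_
  have hc' : P.coroot' j m = 2 * P.coroot' i m := by simp [← hc]
  simp only [Equiv.reflection_smul, reflection_apply, h, hc', smul_smul, mul_comm]

variable {Δ : Set ι} (hΔ : RootD.IsSimpleSys P Δ)
include hΔ

lemma exchange {l : List ι} (hl : ∀ a ∈ l, a ∈ Δ) {a : ι} (ha : a ∈ Δ)
    (hneg : wprod P l • a ∉ RootD.posOf P Δ) :
    ∃ l' : List ι, l'.Sublist l ∧ l'.length + 1 = l.length ∧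
      wprod P l = wprod P l' * Equiv.reflection P a := by
  induction l with
  | nil => exact absurd (mem_posOf_of_mem ha) (by simpa using hneg)
  | cons b t ih =>
    have ht := fun x hx => hl x (List.mem_cons_of_mem b hx)
    by_cases hpos : wprod P t • a ∈ RootD.posOf P Δ
    · refine ⟨t, List.sublist_cons_self b t, rfl, ?_⟩
      have hb := hl b List.mem_cons_self
      have hk : wprod P t • a = b := by
        by_contra hne
        refine hneg ?_
        rw [wprod_cons, mul_smul, refl_smul]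
        exact reflect_mem_posOf hb hpos hne
          (fun h => isIndiv_smul (isIndiv_simple hΔ ha) b h.symm) hΔ
      rw [wprod_cons, ← hk, ← conj_reflection, inv_mul_cancel_right]
    · obtain ⟨t', h1, h2, h3⟩ := ih ht hpos
      exact ⟨b :: t', h1.cons_cons b, by simp [← h2],
        by rw [wprod_cons, wprod_cons, h3, mul_assoc]⟩

lemma minimal_last_neg {T : Set ι} (hT : T ⊆ Δ) {l : List ι} (hl : ∀ a ∈ l, a ∈ T) {a : ι}
    (ha : a ∈ T)
    (hmin : ∀ l' : List ι, (∀ b ∈ l', b ∈ T) → wprod P l' = wprod P (l ++ [a]) →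
      (l ++ [a]).length ≤ l'.length) :
    wprod P l • a ∈ RootD.posOf P Δ ∧
      P.root (wprod P (l ++ [a]) • a) = -P.root (wprod P l • a) := by
  refine ⟨?_, ?_⟩
  · by_contra hneg
    obtain ⟨l', h1, h2, h3⟩ := exchange hΔ (fun x hx => hT (hl x hx)) (hT ha) hneg
    have := hmin l' (fun b hb => hl b (h1.subset hb))
      (by rw [wprod_append, h3, wprod_cons, wprod_nil, mul_one, mul_assoc, refl_mul_self, mul_one])
    simp at this
    omega
  · rw [wprod_append, wprod_cons, wprod_nil, mul_one, mul_smul, refl_smul, smul_ng, root_ng]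

lemma exists_last_neg {T : Set ι} (hT : T ⊆ Δ) {g : P.Aut}
    (hg : g ∈ Subgroup.closure ((fun i : ι => Equiv.reflection P i) '' T)) (hne : g ≠ 1) :
    ∃ a ∈ T, g • a ∉ RootD.posOf P Δ := by
  obtain ⟨l, hl, rfl, hmin⟩ := exists_minimal_word hg
  induction l using List.reverseRecOn with
  | nil => exact absurd rfl hne
  | append_singleton t a _ =>
    have ha : a ∈ T := hl a (by simp)
    obtain ⟨hp, he⟩ := minimal_last_neg hΔ hT (fun x hx => hl x (by simp [hx])) ha hmin
    refine ⟨a, ha, ?_⟩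
    rw [not_mem_posOf_iff hΔ]
    have : ng P (wprod P (t ++ [a]) • a) = wprod P t • a :=
      P.root.injective (by rw [root_ng, he, neg_neg])
    rwa [this]

/-- Every indivisible root is conjugate to a simple root under the simple reflections. -/
lemma exists_conj_simple {k : ι} (hk : RootD.IsIndiv P k) :
    ∃ g ∈ Subgroup.closure ((fun i : ι => Equiv.reflection P i) '' Δ), ∃ i ∈ Δ, g • i = k := by
  suffices h : ∀ n : ℕ, ∀ k, RootD.IsIndiv P k → k ∈ RootD.posOf P Δ → (ht hΔ k).toNat = n →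
      ∃ g ∈ Subgroup.closure ((fun i : ι => Equiv.reflection P i) '' Δ), ∃ i ∈ Δ, g • i = k by
    by_cases hp : k ∈ RootD.posOf P Δ
    · exact h _ k hk hp rfl
    · obtain ⟨g, hg, i, hi, he⟩ :=
        h _ _ (isIndiv_ng P hk) ((not_mem_posOf_iff hΔ).1 hp) rfl
      exact ⟨g * Equiv.reflection P i, mul_mem hg (Subgroup.subset_closure ⟨i, hi, rfl⟩), i, hi,
        by rw [mul_smul, ← ng_eq_smul, smul_ng, he, ng_ng]⟩
  intro n
  induction n using Nat.strong_induction_on with
  | _ n ih =>
    intro k hk hp hn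
    by_cases hkΔ : k ∈ Δ
    · exact ⟨1, one_mem _, k, hkΔ, one_smul _ _⟩
    obtain ⟨i, hi, hpos, -⟩ := exists_sub_simple hΔ hp hkΔ
    have hp' : P.reflectionPerm i k ∈ RootD.posOf P Δ :=
      reflect_mem_posOf hi hp (fun h => hkΔ (h ▸ hi)) (fun h => hk i h.symm) hΔ
    have h1 := ht_pos hΔ hp'
    have h2 := ht_reflectionPerm hΔ hi k
    obtain ⟨g, hg, j, hj, he⟩ := ih _ (by omega) (P.reflectionPerm i k)
      (isIndiv_smul (g := Equiv.reflection P i) hk) hp' rfl
    refine ⟨Equiv.reflection P i * g, mul_mem (Subgroup.subset_closure ⟨i, hi, rfl⟩) hg, j, hj, ?_⟩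
    rw [mul_smul, he, refl_smul, P.reflectionPerm_self]

lemma closure_simple_eq :
    Subgroup.closure ((fun i : ι => Equiv.reflection P i) '' Δ) = P.weylGroup := by
  refine le_antisymm (Subgroup.closure_mono (image_subset_range _ _))
    ((Subgroup.closure_le _).2 ?_)
  rintro - ⟨k, rfl⟩
  obtain ⟨k', hk', he⟩ : ∃ k', RootD.IsIndiv P k' ∧ Equiv.reflection P k = Equiv.reflection P k' := by
    by_cases hk : RootD.IsIndiv P k
    · exact ⟨k, hk, rfl⟩
    · obtain ⟨j, hj, he⟩ := exists_half P hk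
      exact ⟨j, hj, refl_eq_of_double he⟩
  obtain ⟨g, hg, i, hi, rfl⟩ := exists_conj_simple hΔ hk'
  rw [SetLike.mem_coe, he, ← conj_reflection]
  exact mul_mem (mul_mem hg (Subgroup.subset_closure ⟨i, hi, rfl⟩)) (inv_mem hg)

lemma eq_one_of_mapsTo {g : P.Aut} (hg : g ∈ P.weylGroup)
    (h : ∀ a ∈ Δ, g • a ∈ RootD.posOf P Δ) : g = 1 := by
  by_contra hne
  rw [← closure_simple_eq hΔ] at hg
  obtain ⟨a, ha, hn⟩ := exists_last_neg hΔ subset_rfl hg hne
  exact hn (h a ha)

omit hΔ

lemma weyl_ext {g g' : P.Aut} (hg : g ∈ P.weylGroup) (hg' : g' ∈ P.weylGroup)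
    (h : ∀ i : ι, g • i = g' • i) : g = g' := by
  obtain ⟨Δ, hΔ⟩ := exists_isSimpleSys (P := P)
  refine eq_of_inv_mul_eq_one (eq_one_of_mapsTo hΔ (mul_mem (inv_mem hg) hg') fun a ha => ?_)
  rw [mul_smul, ← h, inv_smul_smul]
  exact mem_posOf_of_mem ha

lemma exists_weyl_image_subset {S : Set ι} (hS : RootD.IsPosSys P S) {P' : Set ι}
    (hP2 : ∀ i : ι, i ∈ P' ∨ ng P i ∈ P') (hcl : RootD.IsClosedSub P P') :
    ∃ g : P.Aut, g ∈ P.weylGroup ∧ (fun i : ι => g • i) '' S ⊆ P' := by
  generalize hn : (S \ P').ncard = n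
  induction n using Nat.strong_induction_on generalizing S with
  | _ n ih =>
    by_cases hsub : indec P S ⊆ P'
    · refine ⟨1, one_mem _, ?_⟩
      simp only [one_smul, image_id']
      intro k hk
      exact mem_of_closed P hcl (natSpan_mono P hsub (natSpan_indec hS hk))
    obtain ⟨a, ha, haP⟩ := not_subset.1 hsub
    have hΔ := isSimpleSys_indec hS
    have hpo := posOf_indec hS
    set S' := (fun i : ι => Equiv.reflection P a • i) '' S with hS'
    have hsub' : S' \ P' ⊆ (S \ P') \ {a} := by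
      rintro x ⟨⟨k, hk, rfl⟩, hxP⟩
      change P.reflectionPerm a k ∉ P' at hxP
      change P.reflectionPerm a k ∈ _
      have hngP : ng P a ∈ P' := (hP2 a).resolve_left haP
      have hk1 : k ≠ a := fun h => hxP (h ▸ hngP)
      have hk2 : P.root k ≠ (2 : ℤ) • P.root a := fun h => hxP <| mem_of_closed P hcl <| by
        rw [root_reflectionPerm, h, map_smul, reflection_apply_self, two_smul, ← root_ng]
        exact add_mem (root_mem_natSpan P hngP) (root_mem_natSpan P hngP)
      have := reflect_mem_posOf ha (hpo.symm ▸ hk) hk1 hk2 hΔ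
      rw [hpo] at this
      refine ⟨⟨this, hxP⟩, fun h => ?_⟩
      simp only [mem_singleton_iff] at h
      have hka : k = ng P a := by rw [← P.reflectionPerm_self a k, h]
      rw [hka] at hk
      exact hS.disjoint ha.1 hk
    have hlt : (S' \ P').ncard < n := by
      rw [← hn]
      refine lt_of_le_of_lt (ncard_le_ncard hsub' (Set.toFinite _)) ?_
      exact ncard_diff_singleton_lt_of_mem ⟨ha.1, haP⟩ (Set.toFinite _)
    obtain ⟨g, hg, hgS⟩ := ih _ hlt (isPosSys_image _ hS) rfl
    refine ⟨g * Equiv.reflection P a, mul_mem hg (P.reflection_mem_weylGroup a), ?_⟩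
    rw [image_image] at hgS
    simpa only [mul_smul] using hgS

lemma exists_weyl_image_eq {S S' : Set ι} (hS : RootD.IsPosSys P S) (hS' : RootD.IsPosSys P S') :
    ∃ g : P.Aut, g ∈ P.weylGroup ∧ (fun i : ι => g • i) '' S = S' := by
  obtain ⟨g, hg, hsub⟩ := exists_weyl_image_subset hS hS'.cover (IsPosSys.closed hS')
  refine ⟨g, hg, hsub.antisymm fun k hk => ?_⟩
  have hg' := isPosSys_image g hS
  by_contra hc
  exact hS'.disjoint hk (hsub ((hg'.cover k).resolve_left hc))

lemma exists_weyl_image_simple {Δ' : Set ι} (hΔ : RootD.IsSimpleSys P Δ)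
    (hΔ' : RootD.IsSimpleSys P Δ') :
    ∃ g : P.Aut, g ∈ P.weylGroup ∧ (fun i : ι => g • i) '' Δ = Δ' := by
  obtain ⟨g, hg, he⟩ := exists_weyl_image_eq (isPosSys_posOf hΔ) (isPosSys_posOf hΔ')
  refine ⟨g, hg, ?_⟩
  rw [← indec_posOf (isSimpleSys_image g hΔ), posOf_image, he, indec_posOf hΔ']

/-- Every indivisible root belongs to a simple system. -/
lemma exists_simpleSys_mem {k : ι} (hk : RootD.IsIndiv P k) :
    ∃ Δ, RootD.IsSimpleSys P Δ ∧ k ∈ Δ := by
  obtain ⟨Δ, hΔ⟩ := exists_isSimpleSys (P := P)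
  obtain ⟨g, -, i, hi, rfl⟩ := exists_conj_simple hΔ hk
  exact ⟨_, isSimpleSys_image g hΔ, i, hi, rfl⟩

end Groth.Agent.RootDLib
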