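import Groth.Agent.Lib.RootD.Model

/-!
Transfer of Weyl group statements between a root pairing with a base and its integral model.
-/

namespace Groth.Agent.RootDLib

open RootPairing Set Function

variable {ι R M N : Type*} [CommRing R] [CharZero R] [IsDomain R] [AddCommGroup M] [Module R M]
  [AddCommGroup N] [Module R N] {P : RootPairing ι R M N} [Finite ι] [P.IsCrystallographic]

lemma intModel_isIndiv [P.IsReduced] (k : ι) : RootD.IsIndiv (intModel P) k := by
  have := intModel_isReduced P
  have := torsionFree (intModel P)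
  by_contra hc
  obtain ⟨y, -, hy⟩ := exists_half (intModel P) hc
  exact (intModel P).nsmul_notMem_range_root (i := y) (n := 2)
    ⟨k, by rw [hy, ← natCast_zsmul]; rfl⟩

omit [CharZero R] [IsDomain R] [Finite ι] [P.IsCrystallographic] in
lemma exists_word_weyl {w : P.Aut} (hw : w ∈ P.weylGroup) : ∃ l : List ι, wprod P l = w := by
  rw [weylGroup_eq_closure] at hw
  obtain ⟨l, -, hl⟩ := exists_word hw
  exact ⟨l, hl⟩

omit [CharZero R] [IsDomain R] [Finite ι] [P.IsCrystallographic] in
lemma wprod_mem_weyl (l : List ι) : wprod P l ∈ P.weylGroup := by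
  rw [weylGroup_eq_closure]; exact wprod_mem fun a _ => mem_univ a

/-- The Weyl group is that of the integral model, as groups of permutations of the roots. -/
lemma exists_modelEquiv : ∃ φ : P.weylGroup ≃* (intModel P).weylGroup,
    (∀ i, φ (weylGroup.ofIdx P i) = weylGroup.ofIdx (intModel P) i) ∧
    ∀ (w : P.weylGroup) (i : ι), ((φ w : (intModel P).Aut) • i) = (w : P.Aut) • i := by
  have hex : ∀ w : P.weylGroup, ∃ w' : (intModel P).weylGroup,
      ∀ i : ι, (w' : (intModel P).Aut) • i = (w : P.Aut) • i := fun ⟨w, hw⟩ => by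
    obtain ⟨l, rfl⟩ := exists_word_weyl hw
    exact ⟨⟨_, wprod_mem_weyl l⟩, wprod_intModel l⟩
  choose φ hφ using hex
  have huniq : ∀ (a b : (intModel P).weylGroup),
      (∀ i : ι, (a : (intModel P).Aut) • i = (b : (intModel P).Aut) • i) → a = b :=
    fun a b h => Subtype.ext (weyl_ext a.2 b.2 h)
  let φh : P.weylGroup →* (intModel P).weylGroup := MonoidHom.mk' φ fun a b => huniq _ _ fun i => by
    rw [Subgroup.coe_mul, mul_smul, hφ, hφ, hφ, Subgroup.coe_mul, mul_smul]
  have hbij : Function.Bijective φh := by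
    refine ⟨fun a b h => Subtype.ext (weyl_extR a.2 b.2 fun i => ?_), fun ⟨w', hw'⟩ => ?_⟩
    · rw [← hφ a i, ← hφ b i]
      exact congrArg (fun x : (intModel P).weylGroup => (x : (intModel P).Aut) • i) h
    · obtain ⟨l, rfl⟩ := exists_word_weyl hw'
      exact ⟨⟨_, wprod_mem_weyl l⟩, huniq _ _ fun i => (hφ _ i).trans (wprod_intModel l i).symm⟩
  exact ⟨MulEquiv.ofBijective φh hbij, fun i => huniq _ _ fun k => hφ _ k, fun w i => hφ w i⟩

lemma weylGroup_eq_closure_simple [P.IsReduced] (b : P.Base) :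
    Subgroup.closure ((fun i : ι => Equiv.reflection P i) '' (b.support : Set ι)) = P.weylGroup := by
  refine le_antisymm (Subgroup.closure_mono (image_subset_range _ _))
    ((Subgroup.closure_le _).2 ?_)
  rintro - ⟨k, rfl⟩
  have hΔ := intModel_isSimpleSys b
  obtain ⟨g, hg, i, hi, he⟩ := exists_conj_simple hΔ (intModel_isIndiv k)
  obtain ⟨l, hl, rfl⟩ := exists_word hg
  rw [wprod_intModel] at he
  rw [SetLike.mem_coe, ← he, ← conj_reflection]
  exact mul_mem (mul_mem (wprod_mem hl) (Subgroup.subset_closure ⟨i, hi, rfl⟩))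
    (inv_mem (wprod_mem hl))

lemma eq_one_of_isPos [P.IsReduced] (b : P.Base) {g : P.Aut} (hg : g ∈ P.weylGroup)
    (hpos : ∀ i ∈ b.support, b.IsPos (g • i)) : g = 1 := by
  obtain ⟨φ, -, hφ⟩ := exists_modelEquiv (P := P)
  have h1 : (φ ⟨g, hg⟩ : (intModel P).Aut) = 1 := by
    refine eq_one_of_mapsTo (intModel_isSimpleSys b) (φ ⟨g, hg⟩).2 fun a ha => ?_
    rw [hφ, intModel_mem_posOf_iff]
    exact hpos a ha
  refine weyl_eq_one_of_fix hg fun i => ?_
  have := hφ ⟨g, hg⟩ i
  rw [h1, one_smul] at this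
  exact this.symm

end Groth.Agent.RootDLib
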