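import Mathlib.LinearAlgebra.RootSystem.BaseExists
import Mathlib.LinearAlgebra.RootSystem.WeylGroup
import Groth.Prelude.Def_W4sga3xxiRoot

/-!
Root pairings over `ℤ` (not assumed reduced): the invariant form, closed sets of roots,
sums of roots.
-/

namespace Groth.Agent.RootDLib

open RootPairing Set Function

variable {ι M N : Type*} [AddCommGroup M] [AddCommGroup N] (P : RootPairing ι ℤ M N)

include P in
lemma torsionFree : IsAddTorsionFree M := by
  have : Module.IsReflexive ℤ M := .of_isPerfPair P.toLinearMap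
  exact .of_isTorsionFree ℤ M

include P in
lemma torsionFree' : IsAddTorsionFree N := torsionFree P.flip

/-- The index of the opposite root. -/
abbrev ng (i : ι) : ι := P.reflectionPerm i i

lemma root_ng (i : ι) : P.root (ng P i) = -P.root i := by simp [ng]

@[simp] lemma ng_ng (i : ι) : ng P (ng P i) = i :=
  P.root.injective (by rw [root_ng, root_ng, neg_neg])

lemma root_ne_zero (i : ι) : P.root i ≠ 0 := P.ne_zero i

lemma ng_ne (i : ι) : ng P i ≠ i := by
  have := torsionFree P
  intro h
  have := congrArg P.root h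
  rw [root_ng] at this
  have h2 : (2 : ℕ) • P.root i = 0 := by rw [two_nsmul]; nth_rw 1 [← this]; simp
  rw [nsmul_eq_zero_iff] at h2
  exact root_ne_zero P i (h2.resolve_right (by norm_num))

lemma root_eq_ng {i j : ι} (h : P.root i = -P.root j) : i = ng P j :=
  P.root.injective (by rw [root_ng, h])

lemma pairingIn_eq (i j : ι) : P.pairingIn ℤ i j = P.pairing i j := by
  simpa using P.algebraMap_pairingIn ℤ i j

variable [Finite ι]

lemma sub_mem_of_pairing_pos {i j : ι} (h : 0 < P.pairing i j) (h' : i ≠ j) :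
    ∃ k, P.root k = P.root i - P.root j :=
  P.root_sub_root_mem_of_pairingIn_pos (by rwa [pairingIn_eq]) h'

lemma add_mem_of_pairing_neg {i j : ι} (h : P.pairing i j < 0) (h' : i ≠ ng P j) :
    ∃ k, P.root k = P.root i + P.root j :=
  P.root_add_root_mem_of_pairingIn_neg (by rwa [pairingIn_eq]) (fun he => h' (root_eq_ng P he))

/-- The invariant form `∑ᵢ ⟨x, αᵢ^∨⟩ ⟨y, αᵢ^∨⟩`. -/
noncomputable def form : LinearMap.BilinForm ℤ M :=
  letI := Fintype.ofFinite ι
  P.RootForm

lemma form_eq [Fintype ι] : form P = P.RootForm := by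
  unfold form
  congr
  exact Subsingleton.elim _ _

lemma form_comm (x y : M) : form P x y = form P y x := by
  let _ := Fintype.ofFinite ι
  rw [form_eq]
  simpa using P.rootForm_symmetric.eq x y

lemma form_nonneg (x : M) : 0 ≤ form P x x := by
  let _ := Fintype.ofFinite ι
  rw [form_eq]; exact P.zero_le_rootForm x

lemma eq_zero_of_form {x : M} (hx : x ∈ Submodule.span ℤ (range P.root)) (h : form P x x = 0) :
    x = 0 := by
  let _ := Fintype.ofFinite ι
  rw [form_eq] at h
  exact P.eq_zero_of_mem_rootSpan_of_rootForm_self_eq_zero hx h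

lemma form_pos {x : M} (hx : x ∈ Submodule.span ℤ (range P.root)) (h : x ≠ 0) :
    0 < form P x x :=
  (form_nonneg P x).lt_of_ne fun he => h (eq_zero_of_form P hx he.symm)

omit [Finite ι] in
lemma root_mem (i : ι) : P.root i ∈ Submodule.span ℤ (range P.root) :=
  Submodule.subset_span ⟨i, rfl⟩

lemma form_root_pos (i : ι) : 0 < form P (P.root i) (P.root i) :=
  form_pos P (root_mem P i) (root_ne_zero P i)

lemma two_form_root (x : M) (i : ι) :
    2 * form P x (P.root i) = P.coroot' i x * form P (P.root i) (P.root i) := by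
  let _ := Fintype.ofFinite ι
  have h := congrArg (P.toLinearMap x) (P.rootForm_self_smul_coroot i)
  rw [map_smul, map_nsmul, toLinearMap_apply_apply_Polarization, smul_eq_mul, nsmul_eq_mul] at h
  rw [form_comm, form_eq]
  simp only [LinearMap.flip_apply]
  push_cast at h
  linarith

lemma two_form_root_root (i j : ι) :
    2 * form P (P.root i) (P.root j) = P.pairing i j * form P (P.root j) (P.root j) := by
  simpa using two_form_root P (P.root i) j

lemma pairing_mul_form (i j : ι) :
    P.pairing i j * form P (P.root j) (P.root j) = P.pairing j i * form P (P.root i) (P.root i) := by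
  rw [← two_form_root_root, ← two_form_root_root, form_comm]

lemma coroot'_pos_iff (x : M) (i : ι) : 0 < P.coroot' i x ↔ 0 < form P x (P.root i) := by
  have h := two_form_root P x i
  have hp := form_root_pos P i
  constructor <;> intro h'
  · nlinarith
  · by_contra hc
    push Not at hc
    nlinarith

lemma pairing_pos_iff (i j : ι) : 0 < P.pairing i j ↔ 0 < form P (P.root i) (P.root j) := by
  simpa using coroot'_pos_iff P (P.root i) j

lemma pairing_nonpos_iff (i j : ι) : P.pairing i j ≤ 0 ↔ form P (P.root i) (P.root j) ≤ 0 := by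
  rw [← not_lt, ← not_lt, pairing_pos_iff]

lemma pairing_pos_comm (i j : ι) : 0 < P.pairing i j ↔ 0 < P.pairing j i := by
  rw [pairing_pos_iff, pairing_pos_iff, form_comm]

lemma pairing_neg_comm (i j : ι) : P.pairing i j < 0 ↔ P.pairing j i < 0 := by
  have h := pairing_mul_form P i j
  have hi := form_root_pos P i
  have hj := form_root_pos P j
  constructor <;> intro h' <;> by_contra hc <;> push Not at hc <;> nlinarith

omit [Finite ι] in
lemma pairing_eq_zero_comm (i j : ι) : P.pairing i j = 0 ↔ P.pairing j i = 0 :=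
  P.pairing_eq_zero_iff'

omit [Finite ι] in
lemma isOrthogonal_iff (i j : ι) : P.IsOrthogonal i j ↔ P.pairing i j = 0 :=
  ⟨fun h => h.1, fun h => ⟨h, (pairing_eq_zero_comm P i j).1 h⟩⟩

/-- The invariant form is positive definite on the span of the roots. -/
lemma form_eq_zero_of_forall {x : M} (hx : x ∈ Submodule.span ℤ (range P.root))
    (h : ∀ i, P.coroot' i x = 0) : x = 0 := by
  refine eq_zero_of_form P hx ?_
  let _ := Fintype.ofFinite ι
  rw [form_eq, rootForm_apply_apply]
  exact Finset.sum_eq_zero fun i _ => by rw [h i, zero_mul]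

/-! ### Proportional roots -/

omit [Finite ι] in
lemma mul_pairing_of_smul {i k : ι} {c : ℤ} (h : P.root k = c • P.root i) :
    c * P.pairing i k = 2 := by
  have := congrArg (P.coroot' k) h
  simpa using this.symm

lemma dvd_of_smul_eq_smul {i j : ι} (hind : RootD.IsIndiv P i) {a b : ℤ} (hb : b ≠ 0)
    (h : b • P.root j = a • P.root i) : b ∣ a := by
  have := torsionFree P
  rcases eq_or_ne a 0 with rfl | ha
  · exact dvd_zero b
  have e1 : b * P.pairing j i = a * 2 := by simpa using congrArg (P.coroot' i) h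
  have e2 : b * 2 = a * P.pairing i j := by simpa using congrArg (P.coroot' j) h
  have hi : ∀ k, P.root i ≠ (2 : ℤ) • P.root k := fun k hk => hind k hk.symm
  have key : ∀ c : ℤ, a • (P.root i) = a • (c • P.root j) → P.root i = c • P.root j :=
    fun c hc => zsmul_right_injective ha hc
  have hmem := P.pairingIn_pairingIn_mem_set_of_isCrystallographic i j
  simp only [pairingIn_eq, mem_insert_iff, mem_singleton_iff, Prod.mk.injEq] at hmem
  generalize P.pairing i j = p at *
  generalize P.pairing j i = q at *
  rcases hmem with ⟨rfl, rfl⟩ | ⟨rfl, rfl⟩ | ⟨rfl, rfl⟩ | ⟨rfl, rfl⟩ | ⟨rfl, rfl⟩ | ⟨rfl, rfl⟩ |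
    ⟨rfl, rfl⟩ | ⟨rfl, rfl⟩ | ⟨rfl, rfl⟩ | ⟨rfl, rfl⟩ | ⟨rfl, rfl⟩ | ⟨rfl, rfl⟩ | ⟨rfl, rfl⟩ |
    ⟨rfl, rfl⟩ | ⟨rfl, rfl⟩ | ⟨rfl, rfl⟩ | ⟨rfl, rfl⟩
  all_goals first
    | (exfalso; omega)
    | exact ⟨1, by omega⟩
    | exact ⟨-1, by omega⟩
    | exact ⟨2, by omega⟩
    | exact ⟨-2, by omega⟩
    | (refine absurd (key 2 ?_) (hi j); rw [← h, show b = a * 2 by omega, mul_smul])
    | (refine absurd (key (-2) ?_) ?_
       · rw [← h, show b = a * -2 by omega, mul_smul]
       · rw [neg_smul, ← smul_neg, ← root_ng]; exact hi _)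

lemma smul_eq_root_of_mem_one_two {i k : ι} {c : ℤ} (hc : 0 < c) (h : P.root k = c • P.root i) :
    k = i ∨ c = 2 := by
  have hd : c ∣ 2 := ⟨P.pairing i k, (mul_pairing_of_smul P h).symm⟩
  rcases Int.le_of_dvd (by norm_num) hd with h2
  obtain rfl | rfl : c = 1 ∨ c = 2 := by omega
  · left; exact P.root.injective (by simpa using h)
  · right; rfl

lemma exists_half {k : ι} (hk : ¬ RootD.IsIndiv P k) :
    ∃ j, RootD.IsIndiv P j ∧ P.root k = (2 : ℤ) • P.root j := by
  unfold RootD.IsIndiv at hk
  push Not at hk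
  obtain ⟨j, hj⟩ := hk
  refine ⟨j, fun l hl => ?_, hj.symm⟩
  have h4 : P.root k = (4 : ℤ) • P.root l := by rw [← hj, ← hl, smul_smul]; norm_num
  have := mul_pairing_of_smul P h4
  omega

lemma isIndiv_ng {i : ι} (h : RootD.IsIndiv P i) : RootD.IsIndiv P (ng P i) := fun j hj =>
  h (ng P j) (by rw [root_ng, smul_neg, hj, root_ng, neg_neg])

/-! ### Sums of roots -/

omit [Finite ι] in
lemma mem_natSpan_iff {S : Set ι} {x : M} :
    x ∈ RootD.natSpan P S ↔ ∃ l : List ι, (∀ a ∈ l, a ∈ S) ∧ (l.map P.root).sum = x := by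
  constructor
  · intro hx
    induction hx using AddSubmonoid.closure_induction with
    | mem y hy => obtain ⟨a, ha, rfl⟩ := hy; exact ⟨[a], by simpa, by simp⟩
    | zero => exact ⟨[], by simp, by simp⟩
    | add y z _ _ hy hz =>
      obtain ⟨l, hl, rfl⟩ := hy
      obtain ⟨l', hl', rfl⟩ := hz
      exact ⟨l ++ l', by simpa [or_imp, forall_and] using ⟨hl, hl'⟩, by simp⟩
  · rintro ⟨l, hl, rfl⟩
    exact AddSubmonoid.list_sum_mem _ (by
      rintro y hy; simp only [List.mem_map] at hy
      obtain ⟨a, ha, rfl⟩ := hy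
      exact AddSubmonoid.subset_closure ⟨a, hl a ha, rfl⟩)

omit [Finite ι] in
lemma root_mem_natSpan {S : Set ι} {i : ι} (h : i ∈ S) : P.root i ∈ RootD.natSpan P S :=
  AddSubmonoid.subset_closure ⟨i, h, rfl⟩

omit [Finite ι] in
lemma natSpan_mono {S T : Set ι} (h : S ⊆ T) : RootD.natSpan P S ≤ RootD.natSpan P T :=
  AddSubmonoid.closure_mono (image_mono h)

omit [Finite ι] in
lemma natSpan_le_span (S : Set ι) {x : M} (h : x ∈ RootD.natSpan P S) :
    x ∈ Submodule.span ℤ (P.root '' S) := by
  have hle : AddSubmonoid.closure (P.root '' S) ≤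
      (Submodule.span ℤ (P.root '' S)).toAddSubmonoid := AddSubmonoid.closure_le.2 Submodule.subset_span
  exact hle h

lemma exists_pairing_pos_of_form_pos {l : List ι} {k : ι}
    (h : 0 < form P (P.root k) ((l.map P.root).sum)) : ∃ a ∈ l, 0 < P.pairing k a := by
  by_contra! hc
  induction l with
  | nil => simp at h
  | cons a t ih =>
    simp only [List.map_cons, List.sum_cons, map_add] at h
    have ha := (pairing_nonpos_iff P k a).1 (hc a List.mem_cons_self)
    exact ih (by linarith) fun b hb => hc b (List.mem_cons_of_mem _ hb)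

omit [Finite ι] in
lemma sum_erase [DecidableEq ι] {l : List ι} {a : ι} (h : a ∈ l) :
    (l.map P.root).sum = P.root a + ((l.erase a).map P.root).sum := by
  rw [((List.perm_cons_erase h).map P.root).sum_eq, List.map_cons, List.sum_cons]

/-- In a closed set of roots, a root which is a sum of roots of the set lies in the set. -/
lemma mem_of_closed {S : Set ι} (hS : RootD.IsClosedSub P S) {k : ι}
    (hk : P.root k ∈ RootD.natSpan P S) : k ∈ S := by
  classical
  obtain ⟨l, hl, hsum⟩ := (mem_natSpan_iff P).1 hk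
  clear hk
  generalize hn : l.length = n
  induction n using Nat.strong_induction_on generalizing k l with
  | _ n ih =>
    obtain ⟨a, ha, hpos⟩ := exists_pairing_pos_of_form_pos P (l := l) (k := k)
      (by rw [hsum]; exact form_root_pos P k)
    rcases eq_or_ne k a with rfl | hne
    · exact hl k ha
    obtain ⟨k', hk'⟩ := sub_mem_of_pairing_pos P hpos hne
    have hs' : ((l.erase a).map P.root).sum = P.root k' := by
      rw [hk', ← hsum, sum_erase P ha, add_sub_cancel_left]
    have hlen : (l.erase a).length < n := by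
      rw [List.length_erase_of_mem ha, ← hn]
      have := List.length_pos_of_mem ha
      omega
    have := ih _ hlen (l.erase a) (fun b hb => hl b (List.mem_of_mem_erase hb)) hs' rfl
    exact hS this (hl a ha) (by rw [hk', sub_add_cancel])

lemma isClosedSub_iff (S : Set ι) :
    RootD.IsClosedSub P S ↔ ∀ k : ι, P.root k ∈ RootD.natSpan P S → k ∈ S :=
  ⟨fun h _ hk => mem_of_closed P h hk, fun h i j k hi hj hk => h k (by
    rw [hk]; exact add_mem (root_mem_natSpan P hi) (root_mem_natSpan P hj))⟩

/-- A root which is a non-empty sum of roots is a sum of some of them with all partial sums roots. -/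
lemma exists_chain {l : List ι} {k : ι} (hsum : (l.map P.root).sum = P.root k) :
    ∃ l' : List ι, l' ≠ [] ∧ (∀ a ∈ l', a ∈ l) ∧ (l'.map P.root).sum = P.root k ∧
      ∀ n, 0 < n → n ≤ l'.length → ∃ j, P.root j = ((l'.take n).map P.root).sum := by
  classical
  generalize hn : l.length = n
  induction n using Nat.strong_induction_on generalizing k l with
  | _ n ih =>
    obtain ⟨a, ha, hpos⟩ := exists_pairing_pos_of_form_pos P (l := l) (k := k)
      (by rw [hsum]; exact form_root_pos P k)
    rcases eq_or_ne k a with rfl | hne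
    · refine ⟨[k], by simp, by simpa, by simp, fun m h1 h2 => ⟨k, ?_⟩⟩
      have : m = 1 := by simp at h2; omega
      subst this; simp
    obtain ⟨k', hk'⟩ := sub_mem_of_pairing_pos P hpos hne
    have hs' : ((l.erase a).map P.root).sum = P.root k' := by
      rw [hk', ← hsum, sum_erase P ha, add_sub_cancel_left]
    have hlen : (l.erase a).length < n := by
      rw [List.length_erase_of_mem ha, ← hn]
      have := List.length_pos_of_mem ha
      omega
    obtain ⟨l', h1, h2, h3, h4⟩ := ih _ hlen hs' rfl
    refine ⟨l' ++ [a], by simp, ?_, by simp [h3, hk'], fun m hm1 hm2 => ?_⟩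
    · intro b hb
      rcases List.mem_append.1 hb with hb | hb
      · exact List.mem_of_mem_erase (h2 b hb)
      · simp at hb; exact hb ▸ ha
    · rcases le_or_gt m l'.length with hm | hm
      · rw [List.take_append_of_le_length hm]; exact h4 m hm1 hm
      · refine ⟨k, ?_⟩
        rw [List.take_of_length_le (by simp; omega)]
        simp [h3, hk']

end Groth.Agent.RootDLib
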