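import Groth.Agent.Lib.RootD.Weyl

/-!
Orthogonality, decomposition into components and lengths of roots.
-/

namespace Groth.Agent.RootDLib

open RootPairing Set Function

variable {ι M N : Type*} [AddCommGroup M] [AddCommGroup N] {P : RootPairing ι ℤ M N}

/-- The irreducibility condition of the statements: no proper closed symmetric partition. -/
def Irred (P : RootPairing ι ℤ M N) : Prop :=
  ∀ R' : Set ι, RootD.IsClosedSub P R' → RootD.IsSymmSub P R' → RootD.IsClosedSub P R'ᶜ →
    RootD.IsSymmSub P R'ᶜ → R' = ∅ ∨ R' = Set.univ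

/-- Non-orthogonality. -/
abbrev NOrth (P : RootPairing ι ℤ M N) (a b : ι) : Prop := ¬ P.IsOrthogonal a b

variable [Finite ι]

lemma smul_refl_of_pairing_one {i j : ι} (h1 : P.pairing i j = 1) (h2 : P.pairing j i = 1) :
    (Equiv.reflection P j * Equiv.reflection P i * Equiv.reflection P j) • i = j := by
  apply P.root.injective
  simp only [mul_smul, refl_smul, root_reflectionPerm, reflection_apply_root, map_sub, map_smul,
    h1, h2, one_smul, pairing_same, reflection_apply_self]
  module

lemma smul_refl_of_pairing_neg_one {i j : ι} (h1 : P.pairing i j = -1) (h2 : P.pairing j i = -1) :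
    (Equiv.reflection P i * Equiv.reflection P j) • i = j := by
  apply P.root.injective
  simp only [mul_smul, refl_smul, root_reflectionPerm, reflection_apply_root, map_sub, map_smul,
    h1, h2, pairing_same, reflection_apply_self]
  module

lemma form_eq_imp {i j : ι} (h : form P (P.root i) (P.root i) = form P (P.root j) (P.root j)) :
    P.pairing i j = P.pairing j i := by
  have := pairing_mul_form P i j
  rw [← h] at this
  exact mul_right_cancel₀ (form_root_pos P i).ne' this

/-- Non-orthogonal roots of equal length are conjugate. -/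
lemma exists_weyl_smul_eq {i j : ι} (hno : NOrth P i j)
    (hl : form P (P.root i) (P.root i) = form P (P.root j) (P.root j)) :
    ∃ g : P.Aut, g ∈ P.weylGroup ∧ g • i = j := by
  have h1 := form_eq_imp hl
  have h0 : P.pairing i j ≠ 0 := fun h => hno ((isOrthogonal_iff P i j).2 h)
  have hmem := P.pairingIn_pairingIn_mem_set_of_isCrystallographic i j
  have hm := fun a => P.reflection_mem_weylGroup a
  simp only [pairingIn_eq, mem_insert_iff, mem_singleton_iff, Prod.mk.injEq] at hmem
  have : Module.IsReflexive ℤ M := .of_isPerfPair P.toLinearMap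
  rcases lt_trichotomy (P.pairing i j) 0 with hn | hz | hp
  · rcases (show P.pairing i j = -1 ∨ P.pairing i j = -2 by omega) with h | h
    · exact ⟨_, mul_mem (hm i) (hm j), smul_refl_of_pairing_neg_one h (h1 ▸ h)⟩
    · have := (P.pairingIn_neg_two_neg_two_iff ℤ i j).1 (by
        rw [pairingIn_eq, pairingIn_eq, h, ← h1, h]; exact ⟨rfl, rfl⟩)
      refine ⟨_, hm i, P.root.injective ?_⟩
      rw [refl_smul, root_reflectionPerm, reflection_apply_self, this, neg_neg]
  · exact absurd hz h0
  · rcases (show P.pairing i j = 1 ∨ P.pairing i j = 2 by omega) with h | h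
    · exact ⟨_, mul_mem (mul_mem (hm j) (hm i)) (hm j), smul_refl_of_pairing_one h (h1 ▸ h)⟩
    · have := (P.pairingIn_two_two_iff ℤ i j).1 (by
        rw [pairingIn_eq, pairingIn_eq, h, ← h1, h]; exact ⟨rfl, rfl⟩)
      exact ⟨1, one_mem _, by rw [one_smul, this]⟩

omit [Finite ι]

lemma norh_of_add {i j k : ι} (h : P.root k = P.root i + P.root j) :
    NOrth P k i ∨ NOrth P k j := by
  by_contra! hc
  have h2 := congrArg (P.coroot' k) h
  simp only [map_add, root_coroot'_eq_pairing, pairing_same] at h2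
  rw [hc.1.2, hc.2.2] at h2
  omega

lemma isOrthogonal_ng_iff {i j : ι} : P.IsOrthogonal (ng P i) j ↔ P.IsOrthogonal i j := by
  simp [IsOrthogonal, ng]

lemma norh_symm {i j : ι} (h : NOrth P i j) : NOrth P j i := fun h' => h h'.symm

lemma norh_self (i : ι) : NOrth P i i := fun h => by simpa using h.1

/-- A set of roots saturated under non-orthogonality is closed and symmetric. -/
lemma closed_symm_of_stable {R' : Set ι} (h : ∀ i j, i ∈ R' → NOrth P i j → j ∈ R') :
    RootD.IsClosedSub P R' ∧ RootD.IsSymmSub P R' ∧ RootD.IsClosedSub P R'ᶜ ∧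
      RootD.IsSymmSub P R'ᶜ := by
  have hneg : ∀ i, ng P i ∈ R' ↔ i ∈ R' := fun i =>
    ⟨fun hi => h _ _ hi fun h' => norh_self i (isOrthogonal_ng_iff.1 h'),
      fun hi => h _ _ hi fun h' => norh_self i (isOrthogonal_ng_iff.1 h'.symm)⟩
  refine ⟨fun i j k hi hj hk => ?_, fun i hi => (hneg i).2 hi, fun i j k hi hj hk hk' => ?_,
    fun i hi h' => hi ((hneg i).1 h')⟩
  · rcases norh_of_add hk with hh | hh
    · exact h i k hi (norh_symm hh)
    · exact h j k hj (norh_symm hh)
  · rcases norh_of_add hk with hh | hh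
    · exact hi (h k i hk' hh)
    · exact hj (h k j hk' hh)

/-- The component of a root is closed and symmetric, and so is its complement. -/
lemma component_closed_symm (i : ι) :
    RootD.IsClosedSub P {j : ι | Relation.ReflTransGen (NOrth P) i j} ∧
      RootD.IsSymmSub P {j : ι | Relation.ReflTransGen (NOrth P) i j} ∧
      RootD.IsClosedSub P {j : ι | Relation.ReflTransGen (NOrth P) i j}ᶜ ∧
      RootD.IsSymmSub P {j : ι | Relation.ReflTransGen (NOrth P) i j}ᶜ :=
  closed_symm_of_stable fun _ _ h h' => h.tail h'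

lemma connected_of_irred (hirr : Irred P) (i j : ι) : Relation.ReflTransGen (NOrth P) i j := by
  obtain ⟨h1, h2, h3, h4⟩ := component_closed_symm (P := P) i
  rcases hirr _ h1 h2 h3 h4 with h | h
  · have : i ∈ ({j : ι | Relation.ReflTransGen (NOrth P) i j} : Set ι) := Relation.ReflTransGen.refl
    rw [h] at this; exact this.elim
  · exact eq_univ_iff_forall.1 h j

/-- In an irreducible pairing some translate of a root is non-orthogonal to a given root. -/
lemma exists_translate_norh (hirr : Irred P) (i j : ι) :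
    ∃ g : P.Aut, g ∈ P.weylGroup ∧ NOrth P (g • i) j := by
  induction connected_of_irred hirr i j with
  | refl => exact ⟨1, one_mem _, by rw [one_smul]; exact norh_self i⟩
  | @tail a b _ hab ih =>
    obtain ⟨g, hg, hga⟩ := ih
    by_cases h : NOrth P (g • i) b
    · exact ⟨g, hg, h⟩
    · refine ⟨Equiv.reflection P a * g, mul_mem (P.reflection_mem_weylGroup a) hg, fun h' => ?_⟩
      rw [isOrthogonal_iff, mul_smul, refl_smul] at h'
      have h0 : P.coroot' b (P.root (P.reflectionPerm a (g • i))) = 0 := by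
        rw [root_coroot'_eq_pairing]; exact h'
      rw [root_reflectionPerm, reflection_apply_root] at h0
      have h1 : P.pairing (g • i) b = 0 := (not_not.1 h).1
      have this : P.pairing (g • i) a = 0 ∨ P.pairing a b = 0 := by
        simpa [h1] using h0
      rcases this with h1 | h1
      · exact hga ((isOrthogonal_iff P _ _).2 h1)
      · exact hab ((isOrthogonal_iff P _ _).2 h1)

variable [Finite ι]

lemma mem_of_partition {R' : Set ι} (hc : RootD.IsClosedSub P R') (hs : RootD.IsSymmSub P R')
    (hc' : RootD.IsClosedSub P R'ᶜ) (hs' : RootD.IsSymmSub P R'ᶜ) {i j : ι} (hi : i ∈ R')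
    (hij : NOrth P i j) : j ∈ R' := by
  by_contra hj
  suffices h : ∀ j', j' ∉ R' → P.pairing i j' < 0 → False by
    rcases lt_trichotomy (P.pairing i j) 0 with h1 | h1 | h1
    · exact h j hj h1
    · exact hij ((isOrthogonal_iff P i j).2 h1)
    · exact h (ng P j) (hs' hj) (by simpa [ng] using h1)
  intro j hj h
  obtain ⟨k, hk⟩ := add_mem_of_pairing_neg P h (fun he => hs' hj (by rw [he] at hi; exact hi))
  by_cases hkR : k ∈ R'
  · exact hj (hc hkR (hs hi) (by
      rw [show P.root (P.reflectionPerm i i) = -P.root i from root_ng P i, hk]; abel))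
  · exact hc' hkR (hs' hj) (show P.root i = P.root k + P.root (ng P j) by
      rw [root_ng, hk]; abel) hi

lemma partition_add {R' : Set ι} (hc : RootD.IsClosedSub P R') (hs : RootD.IsSymmSub P R')
    (hc' : RootD.IsClosedSub P R'ᶜ) (hs' : RootD.IsSymmSub P R'ᶜ) {i j k : ι}
    (h : P.root k = P.root i + P.root j) :
    (i ∈ R' ∧ j ∈ R' ∧ k ∈ R') ∨ (i ∉ R' ∧ j ∉ R' ∧ k ∉ R') := by
  have e1 : P.root i = P.root k + P.root (ng P j) := by rw [root_ng, h]; abel
  have e2 : P.root j = P.root k + P.root (ng P i) := by rw [root_ng, h]; abel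
  by_cases hk : k ∈ R'
  · by_cases hi : i ∈ R'
    · exact Or.inl ⟨hi, hc hk (hs hi) e2, hk⟩
    · by_cases hj : j ∈ R'
      · exact absurd (hc hk (hs hj) e1) hi
      · exact absurd hk (hc' hi hj h)
  · by_cases hi : i ∈ R'
    · by_cases hj : j ∈ R'
      · exact absurd (hc hi hj h) hk
      · exact absurd hi (hc' hk (hs' hj) e1)
    · exact Or.inr ⟨hi, fun hj => hc' hk (hs' hi) e2 hj, hk⟩

lemma length_ratio_of_norh {i j : ι} (hno : NOrth P i j)
    (hle : form P (P.root j) (P.root j) ≤ form P (P.root i) (P.root i)) :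
    ∃ m : ℤ, (m = 1 ∨ m = 2 ∨ m = 3 ∨ m = 4) ∧
      form P (P.root i) (P.root i) = m * form P (P.root j) (P.root j) ∧
      (m = 4 → (P.pairing i j).natAbs = 4) := by
  have h0 : P.pairing i j ≠ 0 := fun h => hno ((isOrthogonal_iff P i j).2 h)
  have h := pairing_mul_form P i j
  have hi := form_root_pos P i
  have hj := form_root_pos P j
  have hmem := P.pairingIn_pairingIn_mem_set_of_isCrystallographic i j
  simp only [pairingIn_eq, mem_insert_iff, mem_singleton_iff, Prod.mk.injEq] at hmem
  generalize hp : P.pairing i j = p at *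
  generalize hq : P.pairing j i = q at *
  generalize form P (P.root i) (P.root i) = A at *
  generalize form P (P.root j) (P.root j) = B at *
  rcases hmem with ⟨rfl, rfl⟩ | ⟨rfl, rfl⟩ | ⟨rfl, rfl⟩ | ⟨rfl, rfl⟩ | ⟨rfl, rfl⟩ | ⟨rfl, rfl⟩ |
    ⟨rfl, rfl⟩ | ⟨rfl, rfl⟩ | ⟨rfl, rfl⟩ | ⟨rfl, rfl⟩ | ⟨rfl, rfl⟩ | ⟨rfl, rfl⟩ | ⟨rfl, rfl⟩ |
    ⟨rfl, rfl⟩ | ⟨rfl, rfl⟩ | ⟨rfl, rfl⟩ | ⟨rfl, rfl⟩
  all_goals first
    | (exfalso; omega)
    | exact ⟨1, by simp, by omega, by simp⟩
    | exact ⟨2, by simp, by omega, by simp⟩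
    | exact ⟨3, by simp, by omega, by simp⟩
    | exact ⟨4, by simp, by omega, by simp⟩

lemma form_smul (g : P.Aut) (x y : M) : form P (g • x) (g • y) = form P x y := by
  let _ := Fintype.ofFinite ι
  rw [form_eq, rootForm_apply_apply, rootForm_apply_apply]
  refine (Fintype.sum_equiv (MulAction.toPerm g) _ _ fun j => ?_).symm
  simp only [MulAction.toPerm_apply, coroot'_smul]

lemma form_root_smul (g : P.Aut) (i : ι) :
    form P (P.root (g • i)) (P.root (g • i)) = form P (P.root i) (P.root i) := by
  rw [← smul_root, form_smul]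

/-- In an irreducible pairing every squared length is an integer multiple of the smallest one. -/
lemma length_ratio_of_irred (hirr : Irred P) {i₀ : ι}
    (hmin : ∀ i : ι, form P (P.root i₀) (P.root i₀) ≤ form P (P.root i) (P.root i)) (i : ι) :
    ∃ m : ℤ, (m = 1 ∨ m = 2 ∨ m = 3 ∨ m = 4) ∧
      form P (P.root i) (P.root i) = m * form P (P.root i₀) (P.root i₀) ∧
      (m = 4 → ∃ a b : ι, (P.pairing a b).natAbs = 4) := by
  obtain ⟨g, -, hn⟩ := exists_translate_norh hirr i i₀
  obtain ⟨m, h1, h2, h3⟩ := length_ratio_of_norh hn (by rw [form_root_smul]; exact hmin i)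
  rw [form_root_smul] at h2
  exact ⟨m, h1, h2, fun h => ⟨_, _, h3 h⟩⟩

end Groth.Agent.RootDLib
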