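import Groth.Agent.Lib.RootD.Weyl

/-!
The integral model of a finite crystallographic root pairing: the lattice spanned by the roots with
its dual.
-/

namespace Groth.Agent.RootDLib

open RootPairing Set Function

variable {ι R M N : Type*} [CommRing R] [CharZero R] [IsDomain R] [AddCommGroup M] [Module R M]
  [AddCommGroup N] [Module R N] (P : RootPairing ι R M N) [Finite ι] [P.IsCrystallographic]

omit [Finite ι] [P.IsCrystallographic] in
include P in
lemma torsionFreeR : IsAddTorsionFree M := by
  have : Module.IsReflexive R M := .of_isPerfPair P.toLinearMap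
  exact .of_isTorsionFree R M

lemma rootSpan_isReflexive : Module.IsReflexive ℤ (P.rootSpan ℤ) := by
  have := torsionFreeR P
  infer_instance

/-- The coroots as functionals on the lattice spanned by the roots. -/
noncomputable def modelCoroot : ι ↪ Module.Dual ℤ (P.rootSpan ℤ) :=
  ⟨fun i => P.coroot'In ℤ i, fun i j h => P.coroot.injective (by
    have := torsionFreeR P
    refine P.injOn_dualMap_subtype_span_root_coroot ⟨i, rfl⟩ ⟨j, rfl⟩ (LinearMap.ext fun ⟨x, hx⟩ => ?_)
    change P.coroot' i x = P.coroot' j x
    induction hx using Submodule.span_induction with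
    | mem y hy =>
      obtain ⟨k, rfl⟩ := hy
      have h' := congrArg (algebraMap ℤ R) (LinearMap.congr_fun h (P.rootSpanMem ℤ k))
      rwa [P.algebraMap_coroot'In_apply ℤ, P.algebraMap_coroot'In_apply ℤ] at h'
    | zero => simp
    | add a b _ _ ha hb => rw [map_add, map_add, ha, hb]
    | smul t a _ ha => rw [map_smul, map_smul, ha])⟩

/-- The integral model. -/
noncomputable def intModel : RootPairing ι ℤ (P.rootSpan ℤ) (Module.Dual ℤ (P.rootSpan ℤ)) where
  toLinearMap := Module.Dual.eval ℤ (P.rootSpan ℤ)
  isPerfPair_toLinearMap := by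
    have := rootSpan_isReflexive P
    infer_instance
  root := ⟨fun i => P.rootSpanMem ℤ i, fun i j h => P.root.injective (congrArg Subtype.val h)⟩
  coroot := modelCoroot P
  root_coroot_two i := by
    apply (algebraMap ℤ R).injective_int
    change algebraMap ℤ R (P.coroot'In ℤ i (P.rootSpanMem ℤ i)) = _
    rw [P.algebraMap_coroot'In_apply ℤ]
    simp
  reflectionPerm := P.reflectionPerm
  reflectionPerm_root i j := by
    apply Subtype.ext
    change P.root j - ((P.coroot'In ℤ i (P.rootSpanMem ℤ j)) • P.rootSpanMem ℤ i : P.rootSpan ℤ).1 = _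
    rw [Submodule.coe_smul_of_tower, ← Int.cast_smul_eq_zsmul R]
    change P.root j - (algebraMap ℤ R (P.coroot'In ℤ i (P.rootSpanMem ℤ j))) • P.root i = _
    rw [P.algebraMap_coroot'In_apply ℤ]
    exact P.reflectionPerm_root i j
  reflectionPerm_coroot i j := by
    refine LinearMap.ext fun x => (algebraMap ℤ R).injective_int ?_
    change algebraMap ℤ R (P.coroot'In ℤ j x - P.coroot'In ℤ j (P.rootSpanMem ℤ i) * P.coroot'In ℤ i x)
      = algebraMap ℤ R (P.coroot'In ℤ (P.reflectionPerm i j) x)
    simp only [map_sub, map_mul, P.algebraMap_coroot'In_apply ℤ]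
    simp [coreflection_apply_coroot, reflection_apply, mul_comm]

@[simp] lemma intModel_root (i : ι) : ((intModel P).root i : M) = P.root i := rfl

lemma intModel_reflectionPerm (i j : ι) :
    (intModel P).reflectionPerm i j = P.reflectionPerm i j := rfl

lemma intModel_pairing (i j : ι) : (intModel P).pairing i j = P.pairingIn ℤ i j :=
  P.coroot'In_rootSpanMem_eq_pairingIn (i := j) (j := i) (S := ℤ)

lemma intModel_isReduced [P.IsReduced] : (intModel P).IsReduced := by
  have := torsionFree (intModel P)
  have := torsionFreeR P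
  rw [isReduced_iff']
  intro i j hij hli
  have hnl : ¬ LinearIndependent R ![P.root i, P.root j] := by
    intro h
    apply hli
    rw [LinearIndependent.pair_iff] at h ⊢
    intro s t hst
    have := congrArg Subtype.val hst
    simp only [Submodule.coe_add, Submodule.coe_smul_of_tower, intModel_root,
      ← Int.cast_smul_eq_zsmul R, ZeroMemClass.coe_zero] at this
    exact_mod_cast h (s : R) (t : R) this
  rcases IsReduced.eq_or_eq_neg i j hnl with h | h
  · exact absurd (P.root.injective h) hij
  · exact Subtype.ext (by simpa using h)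

variable {P}

lemma intModel_isSimpleSys (b : P.Base) :
    RootD.IsSimpleSys (intModel P) (↑b.support : Set ι) := by
  refine ⟨?_, fun i => ?_⟩
  · exact b.linearIndependentInt
  · have key : ∀ x ∈ AddSubmonoid.closure (P.root '' ↑b.support), ∀ h : x ∈ P.rootSpan ℤ,
        (⟨x, h⟩ : P.rootSpan ℤ) ∈ RootD.natSpan (intModel P) (↑b.support : Set ι) := by
      intro x hx
      induction hx using AddSubmonoid.closure_induction with
      | mem y hy =>
        obtain ⟨a, ha, rfl⟩ := hy
        exact fun _ => root_mem_natSpan (intModel P) ha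
      | zero => exact fun _ => zero_mem _
      | add a c ha hc iha ihc =>
        intro h
        have hsp : ∀ z ∈ AddSubmonoid.closure (P.root '' ↑b.support), z ∈ P.rootSpan ℤ := fun z hz =>
          (AddSubmonoid.closure_le (S := (P.rootSpan ℤ).toAddSubmonoid)).2
            (by rintro _ ⟨k, _, rfl⟩; exact Submodule.subset_span (mem_range_self k)) hz
        exact add_mem (iha (hsp a ha)) (ihc (hsp c hc))
    exact (b.root_mem_or_neg_mem i).imp (fun h => key _ h _) fun h => key _ h (neg_mem (Submodule.subset_span (mem_range_self i) : P.root i ∈ P.rootSpan ℤ))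

lemma intModel_mem_posOf_iff (b : P.Base) (k : ι) :
    k ∈ RootD.posOf (intModel P) (↑b.support : Set ι) ↔ b.IsPos k := by
  have hΔ := intModel_isSimpleSys b
  have hht : ∀ k, b.height k = ht hΔ k := by
    intro k
    have hs : (coeff hΔ k).support ⊆ b.support := Finset.coe_subset.1 (coeff_supp hΔ k)
    rw [RootPairing.Base.height_eq_sum (f := ⇑(coeff hΔ k)) (by
      have := congrArg Subtype.val (coeff_sum hΔ k)
      rw [Finsupp.linearCombination_apply, Finsupp.sum_of_support_subset _ hs _ (by simp)] at this
      simpa using this.symm)]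
    simp only [ht, Finsupp.linearCombination_apply, smul_eq_mul, mul_one]
    rw [Finsupp.sum_of_support_subset _ hs _ (by simp)]
  rw [RootPairing.Base.isPos_iff, hht]
  refine ⟨ht_pos hΔ, fun h => ?_⟩
  by_contra hc
  have := ht_pos hΔ ((not_mem_posOf_iff hΔ).1 hc)
  rw [ht_ng] at this
  omega

/-- Automorphisms fixing all roots and lying in the Weyl group are trivial. -/
lemma weyl_eq_one_of_fix {g : P.Aut} (hg : g ∈ P.weylGroup) (h : ∀ i : ι, g • i = i) : g = 1 := by
  let _ := Fintype.ofFinite ι
  have := torsionFreeR P
  refine aut_ext fun m => ?_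
  rw [one_smul]
  have hsub : g • m - m ∈ P.rootSpan R := by
    rw [weylGroup_eq_closure] at hg
    obtain ⟨l, -, rfl⟩ := exists_word hg
    clear hg h
    induction l with
    | nil => simp
    | cons a t ih =>
      rw [wprod_cons, mul_smul, Equiv.reflection_smul, reflection_apply, sub_right_comm]
      exact sub_mem ih (Submodule.smul_mem _ _ (Submodule.subset_span ⟨a, rfl⟩))
  have hker : g • m - m ∈ LinearMap.ker P.RootForm := by
    refine LinearMap.mem_ker.2 (LinearMap.ext fun y => ?_)
    rw [LinearMap.zero_apply, rootForm_apply_apply]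
    refine Finset.sum_eq_zero fun j _ => ?_
    have : P.coroot' j (g • m) = P.coroot' j m := by
      conv_lhs => rw [← h j]
      exact coroot'_smul g j m
    rw [map_sub, this, sub_self, zero_mul]
  exact sub_eq_zero.1
    ((Submodule.disjoint_def.1 P.disjoint_rootSpan_ker_rootForm) _ hsub hker)

lemma weyl_extR {g g' : P.Aut} (hg : g ∈ P.weylGroup) (hg' : g' ∈ P.weylGroup)
    (h : ∀ i : ι, g • i = g' • i) : g = g' :=
  eq_of_inv_mul_eq_one (weyl_eq_one_of_fix (mul_mem (inv_mem hg) hg')
    fun i => by rw [mul_smul, ← h, inv_smul_smul])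

lemma wprod_intModel (l : List ι) (i : ι) : wprod (intModel P) l • i = wprod P l • i := by
  induction l with
  | nil => simp
  | cons a t ih => rw [wprod_cons, wprod_cons, mul_smul, mul_smul, refl_smul, refl_smul, ih]; rfl

end Groth.Agent.RootDLib
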