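import Mathlib.LinearAlgebra.RootSystem.Base
import Mathlib.LinearAlgebra.QuadraticForm.Basic

/-! Quadratic forms invariant under the reflections of a root pairing. -/

set_option autoImplicit false

open Set

namespace Groth.Agent.RootQuad

universe u v w x

variable {ι : Type u} {R : Type v} {M : Type w} {N : Type x} [CommRing R] [IsDomain R] [CharZero R]
  [AddCommGroup M] [Module R M] [AddCommGroup N] [Module R N] (P : RootPairing ι R M N)
  (Q : QuadraticMap R N R)

omit [IsDomain R] [CharZero R] in
lemma map_coreflection (j : ι) (y : N) :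
    Q (P.coreflection j y) = Q y + P.root' j y *
      (P.root' j y * Q (P.coroot j) - QuadraticMap.polar Q y (P.coroot j)) := by
  rw [P.coreflection_apply, sub_eq_add_neg, ← neg_smul, QuadraticMap.map_add (Q : N → R), QuadraticMap.map_smul,
    QuadraticMap.polar_smul_right, smul_eq_mul, smul_eq_mul]
  simp only [RootPairing.root']
  ring

omit [IsDomain R] [CharZero R] in
lemma root'_coroot_self (j : ι) : P.root' j (P.coroot j) = 2 := P.root_coroot_two j

omit [IsDomain R] [CharZero R] in
lemma invariant_of_polar {j : ι} {y : N}
    (h : QuadraticMap.polar Q y (P.coroot j) = P.root' j y * Q (P.coroot j)) :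
    Q (P.coreflection j y) = Q y := by
  rw [map_coreflection, h, sub_self, mul_zero, add_zero]

lemma polar_of_invariant {j : ι} (U : Submodule R N) (hU : P.coroot j ∈ U)
    (h : ∀ y ∈ U, Q (P.coreflection j y) = Q y) {y : N} (hy : y ∈ U) :
    QuadraticMap.polar Q y (P.coroot j) = P.root' j y * Q (P.coroot j) := by
  have key : ∀ z ∈ U, P.root' j z ≠ 0 →
      QuadraticMap.polar Q z (P.coroot j) = P.root' j z * Q (P.coroot j) := fun z hz hne => by
    have h1 := h z hz
    rw [map_coreflection, add_eq_left, mul_eq_zero, sub_eq_zero] at h1
    exact (h1.resolve_left hne).symm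
  rcases eq_or_ne (P.root' j y) 0 with h0 | h0
  · have h1 := key _ (U.add_mem hy hU) (by rw [map_add, h0, root'_coroot_self, zero_add]; exact two_ne_zero)
    rw [QuadraticMap.polar_add_left, map_add, h0, root'_coroot_self, QuadraticMap.polar_self,
      nsmul_eq_mul] at h1
    rw [h0, zero_mul]
    push_cast at h1
    linear_combination h1
  · exact key y hy h0

variable {P} in
/-- Invariance under the simple reflections gives invariance under all reflections. -/
lemma invariant_all [Finite ι] [P.IsCrystallographic] [P.IsReduced] (b : P.Base) (U : Submodule R N)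
    (hU : ∀ i, P.coroot i ∈ U) (h : ∀ j ∈ b.support, ∀ y ∈ U, Q (P.coreflection j y) = Q y)
    (i : ι) : ∀ y ∈ U, Q (P.coreflection i y) = Q y := by
  have hneg : ∀ i y, P.coreflection (P.reflectionPerm i i) y = P.coreflection i y := fun i y => by
    simp only [RootPairing.coreflection_apply, RootPairing.coroot', RootPairing.root',
      P.root_reflectionPerm, P.coroot_reflectionPerm, P.reflection_apply_self,
      P.coreflection_apply_self, map_neg, LinearMap.neg_apply, neg_smul, smul_neg, neg_neg]
  refine b.induction_reflect i (fun k hk y hy => by rw [hneg]; exact hk y hy) h ?_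
  intro p q hp hq y hy
  have hinv : ∀ (k : ι) (z : N), z ∈ U → P.coreflection k z ∈ U := fun k z hz => by
    rw [P.coreflection_apply]
    exact U.sub_mem hz (U.smul_mem _ (hU k))
  have e : P.coreflection (P.reflectionPerm q p) y =
      P.coreflection q (P.coreflection p (P.coreflection q y)) :=
    LinearEquiv.congr_fun (P.flip.reflection_reflectionPerm (i := p) (j := q)) y
  rw [e, h q hq _ (hinv p _ (hinv q _ hy)), hp _ (hinv q _ hy), h q hq _ hy]

end Groth.Agent.RootQuad
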