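import Groth.Agent.Lib.RootD.Basic

/-!
Positive systems and simple systems of a finite root pairing over `ℤ` (not assumed reduced).
-/

namespace Groth.Agent.RootDLib

open RootPairing Set Function

variable {ι M N : Type*} [AddCommGroup M] [AddCommGroup N] {P : RootPairing ι ℤ M N}

lemma IsPosSys.closed {S : Set ι} (hS : RootD.IsPosSys P S) : RootD.IsClosedSub P S :=
  fun i j k hi hj hk => hS.sat 1 one_pos (by
    rw [one_smul, hk]; exact add_mem (root_mem_natSpan P hi) (root_mem_natSpan P hj))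

lemma IsPosSys.ng_mem_iff {S : Set ι} (hS : RootD.IsPosSys P S) {i : ι} :
    ng P i ∈ S ↔ i ∉ S :=
  ⟨fun h hi => hS.disjoint hi h, fun h => (hS.cover i).resolve_left h⟩

variable [Finite ι]

/-- If no root and its opposite both lie in a closed set, non-trivial sums do not vanish. -/
lemma eq_nil_of_sum_eq_zero {S : Set ι} (hcl : RootD.IsClosedSub P S)
    (hdisj : ∀ ⦃i⦄, i ∈ S → ng P i ∉ S) {l : List ι} (hl : ∀ a ∈ l, a ∈ S)
    (h : (l.map P.root).sum = 0) : l = [] := by
  cases l with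
  | nil => rfl
  | cons a t =>
    refine absurd (mem_of_closed P hcl (k := ng P a) ?_) (hdisj (hl a List.mem_cons_self))
    refine (mem_natSpan_iff P).2 ⟨t, fun b hb => hl b (List.mem_cons_of_mem _ hb), ?_⟩
    rw [List.map_cons, List.sum_cons] at h
    rw [root_ng]; exact eq_neg_of_add_eq_zero_right h

lemma eq_zero_of_natSpan_of_neg {S : Set ι} (hcl : RootD.IsClosedSub P S)
    (hdisj : ∀ ⦃i⦄, i ∈ S → ng P i ∉ S) {x : M} (hx : x ∈ RootD.natSpan P S)
    (hx' : -x ∈ RootD.natSpan P S) : x = 0 := by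
  obtain ⟨l, hl, rfl⟩ := (mem_natSpan_iff P).1 hx
  obtain ⟨l', hl', h'⟩ := (mem_natSpan_iff P).1 hx'
  have h0 : ((l ++ l').map P.root).sum = 0 := by simp [h']
  have := eq_nil_of_sum_eq_zero hcl hdisj (l := l ++ l')
    (fun a ha => (List.mem_append.1 ha).elim (hl a) (hl' a)) h0
  simp only [List.append_eq_nil_iff] at this
  simp [this.1]

lemma isPosSys_of_closed {S : Set ι} (hdisj : ∀ ⦃i⦄, i ∈ S → ng P i ∉ S)
    (hcov : ∀ i, i ∈ S ∨ ng P i ∈ S) (hcl : RootD.IsClosedSub P S) : RootD.IsPosSys P S := by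
  refine ⟨hdisj, hcov, fun k n hn hk => (hcov k).resolve_right fun hng => ?_⟩
  have hx : -(n • P.root k) ∈ RootD.natSpan P S := by
    rw [← neg_nsmul, ← root_ng]; exact nsmul_mem (root_mem_natSpan P hng) n
  have h0 := eq_zero_of_natSpan_of_neg hcl hdisj hk hx
  have := torsionFree P
  rw [nsmul_eq_zero_iff] at h0
  exact root_ne_zero P k (h0.resolve_right hn.ne')

/-- The elements of `S` which are not a sum of two elements of `S`. -/
def indec (P : RootPairing ι ℤ M N) (S : Set ι) : Set ι :=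
  {k | k ∈ S ∧ ¬ ∃ a ∈ S, ∃ b ∈ S, P.root k = P.root a + P.root b}

omit [Finite ι] in
lemma indec_subset (S : Set ι) : indec P S ⊆ S := fun _ h => h.1

lemma natSpan_indec {S : Set ι} (hS : RootD.IsPosSys P S) {k : ι} (hk : k ∈ S) :
    P.root k ∈ RootD.natSpan P (indec P S) := by
  let r : ι → ι → Prop := fun a b => P.root b - P.root a ∈ RootD.natSpan P S ∧ a ≠ b
  have htrans : IsTrans ι r := ⟨fun a b c hab hbc => by
    have hsum : P.root c - P.root a ∈ RootD.natSpan P S := by
      rw [← sub_add_sub_cancel (P.root c) (P.root b) (P.root a)]; exact add_mem hbc.1 hab.1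
    refine ⟨hsum, fun hac => hab.2 (P.root.injective ?_)⟩
    subst hac
    have := eq_zero_of_natSpan_of_neg (IsPosSys.closed hS) hS.disjoint hab.1
      (by rw [neg_sub]; exact hbc.1)
    exact (sub_eq_zero.1 this).symm⟩
  have hirr : Std.Irrefl r := ⟨fun a h => h.2 rfl⟩
  have hwf : WellFounded r := Finite.wellFounded_of_trans_of_irrefl r
  induction k using hwf.induction with
  | _ k ih =>
    by_cases hi : k ∈ indec P S
    · exact root_mem_natSpan P hi
    · simp only [indec, mem_setOf_eq, not_and, not_not] at hi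
      obtain ⟨a, ha, b, hb, hab⟩ := hi hk
      have key : ∀ x y, x ∈ S → y ∈ S → P.root k = P.root x + P.root y →
          P.root x ∈ RootD.natSpan P (indec P S) := fun x y hx hy hxy => ih x ⟨by
        rw [hxy, add_sub_cancel_left]; exact root_mem_natSpan P hy, fun he => root_ne_zero P y (by
          subst he; simpa using hxy)⟩ hx
      rw [hab]
      exact add_mem (key a b ha hb hab) (key b a hb ha (by rw [hab, add_comm]))

lemma indec_pairing_nonpos {S : Set ι} (hS : RootD.IsPosSys P S) {i j : ι}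
    (hi : i ∈ indec P S) (hj : j ∈ indec P S) (hij : i ≠ j) : P.pairing i j ≤ 0 := by
  by_contra! h
  obtain ⟨k, hk⟩ := sub_mem_of_pairing_pos P h hij
  rcases hS.cover k with hk' | hk'
  · exact hi.2 ⟨k, hk', j, hj.1, by rw [hk, sub_add_cancel]⟩
  · exact hj.2 ⟨ng P k, hk', i, hi.1, by rw [root_ng, hk]; abel⟩

lemma linearIndepOn_indec {S : Set ι} (hS : RootD.IsPosSys P S) :
    LinearIndepOn ℤ P.root (indec P S) := by
  classical
  rw [linearIndepOn_iff']
  intro s c hs hsum
  set A := s.filter (fun a => 0 < c a) with hA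
  set B := s.filter (fun a => ¬ 0 < c a) with hB
  have hAB : ∑ a ∈ A, c a • P.root a = ∑ b ∈ B, (-c b) • P.root b := by
    rw [← Finset.sum_filter_add_sum_filter_not s (fun a => 0 < c a)] at hsum
    simp only [neg_smul, Finset.sum_neg_distrib]
    exact eq_neg_of_add_eq_zero_left hsum
  set v := ∑ a ∈ A, c a • P.root a with hv
  have hspan : v ∈ Submodule.span ℤ (range P.root) :=
    sum_mem fun a _ => Submodule.smul_mem _ _ (root_mem P a)
  have hle : form P v v ≤ 0 := by
    conv_lhs => arg 2; rw [hAB]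
    rw [hv]
    simp only [map_sum, LinearMap.sum_apply, map_smul, LinearMap.smul_apply, smul_eq_mul]
    refine Finset.sum_nonpos fun b hb => ?_
    simp only [hB, Finset.mem_filter] at hb
    refine mul_nonpos_of_nonneg_of_nonpos (by omega) (Finset.sum_nonpos fun a ha => ?_)
    simp only [hA, Finset.mem_filter] at ha
    exact mul_nonpos_of_nonneg_of_nonpos ha.2.le ((pairing_nonpos_iff P a b).1
      (indec_pairing_nonpos hS (hs ha.1) (hs hb.1) (fun h => hb.2 (h ▸ ha.2))))
  have hv0 : v = 0 := eq_zero_of_form P hspan (le_antisymm hle (form_nonneg P v))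
  have key : ∀ (T : Finset ι) (d : ι → ℤ), (∀ a ∈ T, a ∈ S ∧ 0 ≤ d a) →
      ∑ a ∈ T, d a • P.root a = 0 → ∀ a ∈ T, d a = 0 := by
    intro T d hT h0 a ha
    by_contra hne
    have hmem : ∀ b ∈ T, d b • P.root b ∈ RootD.natSpan P S := fun b hb => by
      obtain ⟨m, hm⟩ := Int.eq_ofNat_of_zero_le (hT b hb).2
      rw [hm, natCast_zsmul]; exact nsmul_mem (root_mem_natSpan P (hT b hb).1) m
    have h1 : d a • P.root a = 0 := by
      refine eq_zero_of_natSpan_of_neg (IsPosSys.closed hS) hS.disjoint (hmem a ha) ?_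
      have := (Finset.add_sum_erase T (fun b => d b • P.root b) ha).trans h0
      rw [← eq_neg_of_add_eq_zero_right this]
      exact sum_mem fun b hb => hmem b (Finset.mem_of_mem_erase hb)
    have := torsionFree P
    exact hne ((smul_eq_zero.1 h1).resolve_right (root_ne_zero P a))
  intro i hi
  by_cases h : 0 < c i
  · have := key A c (fun a ha => by
      simp only [hA, Finset.mem_filter] at ha
      exact ⟨(hs ha.1).1, ha.2.le⟩) hv0 i (by simp [hA, hi, h])
    omega
  · have := key B (fun b => -c b) (fun a ha => by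
      simp only [hB, Finset.mem_filter] at ha
      exact ⟨(hs ha.1).1, by omega⟩) (hAB.symm.trans hv0) i (by simp only [hB, Finset.mem_filter]; exact ⟨hi, h⟩)
    omega

lemma isSimpleSys_indec {S : Set ι} (hS : RootD.IsPosSys P S) :
    RootD.IsSimpleSys P (indec P S) := by
  refine ⟨linearIndepOn_indec hS, fun i => (hS.cover i).imp (natSpan_indec hS) fun h => ?_⟩
  rw [← root_ng]; exact natSpan_indec hS h

/-! ### Coordinates with respect to a simple system -/

variable {Δ : Set ι} (hΔ : RootD.IsSimpleSys P Δ)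

omit [Finite ι] in
lemma mem_natSpan_iff_finsupp {S : Set ι} {x : M} :
    x ∈ RootD.natSpan P S ↔ ∃ c : ι →₀ ℤ, ↑c.support ⊆ S ∧ 0 ≤ c ∧
      Finsupp.linearCombination ℤ P.root c = x := by
  classical
  constructor
  · intro hx
    induction hx using AddSubmonoid.closure_induction with
    | mem y hy =>
      obtain ⟨a, ha, rfl⟩ := hy
      refine ⟨Finsupp.single a 1, ?_, Finsupp.single_nonneg.2 zero_le_one, by simp⟩
      intro b hb; rw [Finsupp.support_single_ne_zero _ one_ne_zero] at hb; simp at hb; exact hb ▸ ha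
    | zero => exact ⟨0, by simp, le_rfl, by simp⟩
    | add y z _ _ hy hz =>
      obtain ⟨c, hc, hc0, rfl⟩ := hy
      obtain ⟨d, hd, hd0, rfl⟩ := hz
      refine ⟨c + d, ?_, add_nonneg hc0 hd0, by simp⟩
      exact (Finset.coe_subset.2 Finsupp.support_add).trans (by simpa using ⟨hc, hd⟩)
  · rintro ⟨c, hc, hc0, rfl⟩
    rw [Finsupp.linearCombination_apply, Finsupp.sum]
    refine sum_mem fun a ha => ?_
    obtain ⟨m, hm⟩ := Int.eq_ofNat_of_zero_le (hc0 a)
    rw [hm, natCast_zsmul]; exact nsmul_mem (root_mem_natSpan P (hc ha)) m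

omit [Finite ι] in
include hΔ in
lemma coeff_unique {c d : ι →₀ ℤ} (hc : ↑c.support ⊆ Δ) (hd : ↑d.support ⊆ Δ)
    (h : Finsupp.linearCombination ℤ P.root c = Finsupp.linearCombination ℤ P.root d) : c = d :=
  sub_eq_zero.1 <| linearIndepOn_iff.1 hΔ.linInd _
    (sub_mem ((Finsupp.mem_supported ℤ c).2 hc) ((Finsupp.mem_supported ℤ d).2 hd)) (by simp [h])

omit [Finite ι] in
include hΔ in
lemma exists_coeff (k : ι) : ∃ c : ι →₀ ℤ, ↑c.support ⊆ Δ ∧
    Finsupp.linearCombination ℤ P.root c = P.root k ∧ (0 ≤ c ∨ c ≤ 0) := by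
  rcases hΔ.mem_or_neg_mem k with h | h <;>
    obtain ⟨c, hc, hc0, he⟩ := mem_natSpan_iff_finsupp.1 h
  · exact ⟨c, hc, he, Or.inl hc0⟩
  · refine ⟨-c, by simpa using hc, by simp [he], Or.inr ?_⟩
    simpa using hc0

/-- The coordinates of a root in a simple system. -/
noncomputable def coeff (k : ι) : ι →₀ ℤ := (exists_coeff hΔ k).choose

omit [Finite ι] in
lemma coeff_supp (k : ι) : ↑(coeff hΔ k).support ⊆ Δ := (exists_coeff hΔ k).choose_spec.1

omit [Finite ι] in
lemma coeff_sum (k : ι) : Finsupp.linearCombination ℤ P.root (coeff hΔ k) = P.root k :=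
  (exists_coeff hΔ k).choose_spec.2.1

omit [Finite ι] in
lemma coeff_sign (k : ι) : 0 ≤ coeff hΔ k ∨ coeff hΔ k ≤ 0 := (exists_coeff hΔ k).choose_spec.2.2

omit [Finite ι] in
lemma coeff_ne_zero (k : ι) : coeff hΔ k ≠ 0 := fun h =>
  root_ne_zero P k (by rw [← coeff_sum hΔ k, h, map_zero])

omit [Finite ι] in
lemma coeff_eq {k : ι} {c : ι →₀ ℤ} (hc : ↑c.support ⊆ Δ)
    (h : Finsupp.linearCombination ℤ P.root c = P.root k) : coeff hΔ k = c :=
  coeff_unique hΔ (coeff_supp hΔ k) hc (by rw [coeff_sum, h])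

omit [Finite ι] in
lemma coeff_simple {i : ι} (hi : i ∈ Δ) : coeff hΔ i = Finsupp.single i 1 :=
  coeff_eq hΔ (by rw [Finsupp.support_single_ne_zero _ one_ne_zero]; simpa) (by simp)

omit [Finite ι] in
lemma mem_posOf_iff {k : ι} : k ∈ RootD.posOf P Δ ↔ 0 ≤ coeff hΔ k := by
  constructor
  · intro h
    obtain ⟨c, hc, hc0, he⟩ := mem_natSpan_iff_finsupp.1 h
    rwa [coeff_eq hΔ hc he]
  · exact fun h => mem_natSpan_iff_finsupp.2 ⟨_, coeff_supp hΔ k, h, coeff_sum hΔ k⟩

omit [Finite ι] in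
lemma coeff_add {i j k : ι} (h : P.root k = P.root i + P.root j) :
    coeff hΔ k = coeff hΔ i + coeff hΔ j := by
  classical
  exact coeff_eq hΔ ((Finset.coe_subset.2 Finsupp.support_add).trans
    (by simpa using ⟨coeff_supp hΔ i, coeff_supp hΔ j⟩)) (by simp [coeff_sum, h])

omit [Finite ι] in
lemma coeff_smul {i k : ι} (z : ℤ) (h : P.root k = z • P.root i) :
    coeff hΔ k = z • coeff hΔ i :=
  coeff_eq hΔ ((Finset.coe_subset.2 Finsupp.support_smul).trans (coeff_supp hΔ i))
    (by simp [coeff_sum, h])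

omit [Finite ι] in
lemma coeff_ng (k : ι) : coeff hΔ (ng P k) = -coeff hΔ k := by
  simpa using coeff_smul hΔ (i := k) (k := ng P k) (-1) (by rw [root_ng]; simp)

omit [Finite ι] in
lemma coeff_reflectionPerm (i k : ι) :
    coeff hΔ (P.reflectionPerm i k) = coeff hΔ k - P.pairing k i • coeff hΔ i := by
  classical
  refine coeff_eq hΔ ?_ (by simp [coeff_sum, reflection_apply_root])
  refine (Finset.coe_subset.2 Finsupp.support_sub).trans ?_
  rw [Finset.coe_union, union_subset_iff]
  exact ⟨coeff_supp hΔ k, (Finset.coe_subset.2 Finsupp.support_smul).trans (coeff_supp hΔ i)⟩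

/-- The height of a root. -/
noncomputable def ht (k : ι) : ℤ :=
  Finsupp.linearCombination ℤ (fun _ => (1 : ℤ)) (coeff hΔ k)

omit [Finite ι] in
lemma ht_simple {i : ι} (hi : i ∈ Δ) : ht hΔ i = 1 := by simp [ht, coeff_simple hΔ hi]

omit [Finite ι] in
lemma ht_pos {k : ι} (h : k ∈ RootD.posOf P Δ) : 0 < ht hΔ k := by
  rw [mem_posOf_iff hΔ] at h
  simp only [ht, Finsupp.linearCombination_apply, Finsupp.sum, smul_eq_mul, mul_one]
  refine Finset.sum_pos (fun a ha => (h a).lt_of_ne fun he => ?_) ?_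
  · exact Finsupp.mem_support_iff.1 ha he.symm
  · exact Finsupp.support_nonempty_iff.2 (coeff_ne_zero hΔ k)

omit [Finite ι] in
lemma ht_ng (k : ι) : ht hΔ (ng P k) = -ht hΔ k := by simp [ht, coeff_ng]

omit [Finite ι] in
lemma ht_reflectionPerm {i : ι} (hi : i ∈ Δ) (k : ι) :
    ht hΔ (P.reflectionPerm i k) = ht hΔ k - P.pairing k i := by
  simp [ht, coeff_reflectionPerm, coeff_simple hΔ hi, map_sub]

include hΔ in
lemma isPosSys_posOf : RootD.IsPosSys P (RootD.posOf P Δ) := by
  refine isPosSys_of_closed (fun i hi hn => ?_) (fun i => ?_) (fun i j k hi hj hk => ?_)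
  · rw [mem_posOf_iff hΔ] at hi hn
    rw [coeff_ng, Left.nonneg_neg_iff] at hn
    exact coeff_ne_zero hΔ i (le_antisymm hn hi)
  · refine (hΔ.mem_or_neg_mem i).imp_right fun h => ?_
    change P.root _ ∈ RootD.natSpan P Δ
    rwa [root_ng]
  · change P.root k ∈ RootD.natSpan P Δ
    rw [hk]; exact add_mem hi hj

omit [Finite ι] in
lemma mem_posOf_of_mem {i : ι} (hi : i ∈ Δ) : i ∈ RootD.posOf P Δ := root_mem_natSpan P hi

include hΔ in
lemma not_mem_posOf_iff {k : ι} : k ∉ RootD.posOf P Δ ↔ ng P k ∈ RootD.posOf P Δ :=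
  (IsPosSys.ng_mem_iff (isPosSys_posOf hΔ)).symm

omit [Finite ι] in
lemma posOf_subset {S : Set ι} (hS : RootD.IsPosSys P S) (h : Δ ⊆ S) : RootD.posOf P Δ ⊆ S :=
  fun k hk => hS.sat 1 one_pos (by rw [one_smul]; exact natSpan_mono P h hk)

include hΔ in
lemma posOf_eq {S : Set ι} (hS : RootD.IsPosSys P S) (h : Δ ⊆ S) : RootD.posOf P Δ = S := by
  refine (posOf_subset hS h).antisymm fun k hk => ?_
  by_contra hc
  exact hS.disjoint hk (posOf_subset hS h ((not_mem_posOf_iff hΔ).1 hc))

include hΔ in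
/-- A positive root off `Δ` minus some simple root is a positive root. -/
lemma exists_sub_simple {k : ι} (hk : k ∈ RootD.posOf P Δ) (hkΔ : k ∉ Δ) :
    ∃ i ∈ Δ, 0 < P.pairing k i ∧ ∃ b ∈ RootD.posOf P Δ, P.root k = P.root b + P.root i := by
  classical
  obtain ⟨l, hl, hsum⟩ := (mem_natSpan_iff P).1 hk
  obtain ⟨i, hi, hpos⟩ := exists_pairing_pos_of_form_pos P (l := l) (k := k)
    (by rw [hsum]; exact form_root_pos P k)
  have hne : k ≠ i := fun h => hkΔ (h ▸ hl i hi)
  obtain ⟨b, hb⟩ := sub_mem_of_pairing_pos P hpos hne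
  refine ⟨i, hl i hi, hpos, b, ?_, by rw [hb, sub_add_cancel]⟩
  refine (mem_natSpan_iff P).2 ⟨l.erase i, fun a ha => hl a (List.mem_of_mem_erase ha), ?_⟩
  rw [hb, ← hsum, sum_erase P hi, add_sub_cancel_left]

include hΔ in
lemma indec_posOf : indec P (RootD.posOf P Δ) = Δ := by
  refine Subset.antisymm (fun k hk => ?_) fun k hk => ⟨mem_posOf_of_mem hk, ?_⟩
  · by_contra hc
    obtain ⟨i, hi, -, b, hb, he⟩ := exists_sub_simple hΔ hk.1 hc
    exact hk.2 ⟨b, hb, i, mem_posOf_of_mem hi, he⟩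
  · rintro ⟨a, ha, b, hb, he⟩
    have h1 := congrArg (Finsupp.linearCombination ℤ (fun _ : ι => (1 : ℤ))) (coeff_add hΔ he)
    rw [map_add] at h1
    have := ht_pos hΔ ha
    have := ht_pos hΔ hb
    have := ht_simple hΔ hk
    simp only [ht] at *
    omega

lemma existsUnique_simpleSys {S : Set ι} (hS : RootD.IsPosSys P S) :
    ∃! Δ : Set ι, RootD.IsSimpleSys P Δ ∧ Δ ⊆ S :=
  ⟨indec P S, ⟨isSimpleSys_indec hS, indec_subset S⟩, fun Δ ⟨hΔ, hsub⟩ => by
    rw [← posOf_eq hΔ hS hsub, indec_posOf hΔ]⟩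

lemma posOf_indec {S : Set ι} (hS : RootD.IsPosSys P S) :
    RootD.posOf P (indec P S) = S :=
  posOf_eq (isSimpleSys_indec hS) hS (indec_subset S)

include hΔ in
omit [Finite ι] in
lemma isIndiv_simple {i : ι} (hi : i ∈ Δ) : RootD.IsIndiv P i := fun j hj => by
  have := congrArg (fun c => Finsupp.linearCombination ℤ (fun _ : ι => (1 : ℤ)) c)
    (coeff_smul hΔ 2 hj.symm)
  simp only [map_smul, coeff_simple hΔ hi, Finsupp.linearCombination_single, smul_eq_mul] at this
  omega

include hΔ in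
lemma pairing_simple_nonpos {i j : ι} (hi : i ∈ Δ) (hj : j ∈ Δ) (hij : i ≠ j) :
    P.pairing i j ≤ 0 := by
  rw [← indec_posOf hΔ] at hi hj
  exact indec_pairing_nonpos (isPosSys_posOf hΔ) hi hj hij

/-- The reflection in a simple root permutes the positive roots not proportional to it. -/
lemma reflect_mem_posOf {i k : ι} (hi : i ∈ Δ) (hk : k ∈ RootD.posOf P Δ) (hne : k ≠ i)
    (hne2 : P.root k ≠ (2 : ℤ) • P.root i) (hΔ : RootD.IsSimpleSys P Δ) :
    P.reflectionPerm i k ∈ RootD.posOf P Δ := by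
  classical
  rw [mem_posOf_iff hΔ] at hk
  obtain ⟨a, ha, hai⟩ : ∃ a, 0 < coeff hΔ k a ∧ a ≠ i := by
    by_contra! hc
    have hk' : coeff hΔ k = Finsupp.single i (coeff hΔ k i) := by
      ext a
      rcases eq_or_ne a i with rfl | ha
      · simp
      · rw [Finsupp.single_eq_of_ne ha]
        exact le_antisymm (not_lt.1 fun h => ha (hc a h)) (hk a)
    have he : P.root k = coeff hΔ k i • P.root i := by
      conv_lhs => rw [← coeff_sum hΔ k, hk', Finsupp.linearCombination_single]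
    have hpos : 0 < coeff hΔ k i := (hk i).lt_of_ne fun h => root_ne_zero P k (by
      rw [he, ← h]; simp)
    rcases smul_eq_root_of_mem_one_two P hpos he with h | h
    · exact hne h
    · exact hne2 (by rw [he, h])
  by_contra hc
  rw [not_mem_posOf_iff hΔ, mem_posOf_iff hΔ, coeff_ng] at hc
  have h' := hc a
  simp [coeff_reflectionPerm, coeff_simple hΔ hi, Finsupp.single_eq_of_ne hai] at h'
  omega

end Groth.Agent.RootDLib
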